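import Cfsg.Agent.SectRankFour.SymmetricSix
import Cfsg.Agent.PLocal.PStableQuot
import Cfsg.Agent.Fusion.MetacyclicAut
import Cfsg.Agent.Solvable.Basics
import Cfsg.Agent.Solvable.TwoMetacyclic

/-!
The Frattini quotient of `O₂(X)` as a self-centralising module.
-/

set_option autoImplicit false
set_option linter.unusedSectionVars false
set_option linter.style.haveILetI false

namespace CfsgLib.SectRankFour

open Subgroup
open scoped commutatorElement

variable {X : Type*} [Group X] [Finite X]

theorem centralizer_pCore_le (hc : Cfsg.IsPConstrained 2 X) (hO : Cfsg.oddCore X = ⊥) :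
    centralizer (Cfsg.pCore 2 X : Set X) ≤ Cfsg.pCore 2 X := by
  haveI : Fact (Nat.Prime 2) := ⟨Nat.prime_two⟩
  have h := CfsgLib.PStableQuot.pPrimePCore_eq_pCore (p := 2) hO
  obtain ⟨P⟩ : Nonempty (Sylow 2 ↥(Cfsg.pPrimePCore 2 X)) := inferInstance
  have hP := hc P
  have hp : IsPGroup 2 ↥(Cfsg.pPrimePCore 2 X) := h ▸ CfsgLib.Solvable.isPGroup_pCore 2
  have htop : (P : Subgroup ↥(Cfsg.pPrimePCore 2 X)) = ⊤ :=
    (P.is_maximal' (hp.to_subgroup ⊤) le_top).symm
  rw [htop, ← MonoidHom.range_eq_map, Subgroup.range_subtype, h] at hP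
  exact hP

/-- The Frattini subgroup of `O₂(X)` inside `X`. -/
def frat (X : Type*) [Group X] : Subgroup X := (frattini (Cfsg.pCore 2 X)).map (Cfsg.pCore 2 X).subtype

theorem frat_le : frat X ≤ Cfsg.pCore 2 X := map_subtype_le _

theorem frat_normal : (frat X).Normal := by
  haveI : (Cfsg.pCore 2 X).Normal := CfsgLib.Solvable.pCore_normal 2
  haveI : (frattini (Cfsg.pCore 2 X)).Characteristic := frattini_characteristic
  exact ConjAct.normal_of_characteristic_of_normal

/-- `X` modulo `Φ(O₂(X))` with its module. -/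
theorem exists_module (hc : Cfsg.IsPConstrained 2 X) (hO : Cfsg.oddCore X = ⊥)
    (h4 : Cfsg.SectionalPRankLE 2 4 ↥(Cfsg.pCore 2 X)) [(frat X).Normal] :
    ((Cfsg.pCore 2 X).map (QuotientGroup.mk' (frat X))).Normal ∧
      (∀ a ∈ (Cfsg.pCore 2 X).map (QuotientGroup.mk' (frat X)),
        ∀ b ∈ (Cfsg.pCore 2 X).map (QuotientGroup.mk' (frat X)), a * b = b * a) ∧
      (∀ a ∈ (Cfsg.pCore 2 X).map (QuotientGroup.mk' (frat X)), a * a = 1) ∧
      Nat.card ((Cfsg.pCore 2 X).map (QuotientGroup.mk' (frat X))) ≤ 16 ∧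
      centralizer (((Cfsg.pCore 2 X).map (QuotientGroup.mk' (frat X)) : Subgroup (X ⧸ frat X)) : Set (X ⧸ frat X)) ≤
        (Cfsg.pCore 2 X).map (QuotientGroup.mk' (frat X)) := by
  classical
  haveI : Fact (Nat.Prime 2) := ⟨Nat.prime_two⟩
  set Q := Cfsg.pCore 2 X with hQdef
  haveI : Q.Normal := CfsgLib.Solvable.pCore_normal 2
  have hQ : IsPGroup 2 Q := CfsgLib.Solvable.isPGroup_pCore 2
  set π := QuotientGroup.mk' (frat X)
  obtain ⟨hcomF, hsqF⟩ := CfsgLib.PGroupBasic.commutator_pow_le_frattini (p := 2) hQ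
  have hab : ∀ a ∈ Q.map π, ∀ b ∈ Q.map π, a * b = b * a := by
    rintro - ⟨a, ha, rfl⟩ - ⟨b, hb, rfl⟩
    rw [← commutatorElement_eq_one_iff_mul_comm, ← map_commutatorElement]
    refine (QuotientGroup.eq_one_iff _).2 ⟨⁅(⟨a, ha⟩ : Q), ⟨b, hb⟩⁆, ?_, ?_⟩
    · exact hcomF (commutator_mem_commutator (mem_top _) (mem_top _))
    · rw [map_commutatorElement]; rfl
  have hsq : ∀ a ∈ Q.map π, a * a = 1 := by
    rintro - ⟨a, ha, rfl⟩
    rw [← map_mul]
    refine (QuotientGroup.eq_one_iff _).2 ⟨(⟨a, ha⟩ : Q) ^ 2, hsqF _, ?_⟩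
    rw [Subgroup.subtype_apply, SubmonoidClass.coe_pow, pow_two]
  refine ⟨Subgroup.Normal.map inferInstance π (QuotientGroup.mk'_surjective _), hab, hsq, ?_, ?_⟩
  · have hb := CfsgLib.SectionalFour.section_bound (S := Q) h4 (K := ⊤) (N := frattini Q) le_top
      (le_normalizer_of_normal)
      (fun x _ y _ => by
        rw [← commutatorElement_def]
        exact hcomF (commutator_mem_commutator (mem_top _) (mem_top _)))
      (fun x _ => by rw [← pow_two]; exact hsqF _)
    rw [card_top] at hb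
    have h1 : Nat.card (Q.map π) * Nat.card (frat X) = Nat.card Q := by
      have hker : (π.comp Q.subtype).ker = frattini Q := by
        rw [← MonoidHom.comap_ker, QuotientGroup.ker_mk']
        exact comap_map_eq_self_of_injective Q.subtype_injective _
      have h := (π.comp Q.subtype).ker.card_mul_index
      rw [index_ker, MonoidHom.range_comp, range_subtype, hker] at h
      rw [mul_comm, ← h]
      congr 1
      exact Nat.card_congr ((frattini Q).equivMapOfInjective _ Q.subtype_injective).toEquiv.symm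
    have h2 : Nat.card (frat X) = Nat.card (frattini Q) :=
      Nat.card_congr ((frattini Q).equivMapOfInjective _ Q.subtype_injective).toEquiv.symm
    rw [← h1, h2] at hb
    exact Nat.le_of_mul_le_mul_right hb Nat.card_pos
  · intro y hy
    obtain ⟨g, rfl⟩ := QuotientGroup.mk'_surjective (frat X) y
    -- the preimage of the centralizer is a 2-group
    set C : Subgroup X := (centralizer ((Q.map π : Subgroup (X ⧸ frat X)) : Set (X ⧸ frat X))).comap π
    haveI : (Q.map π).Normal := Subgroup.Normal.map inferInstance π (QuotientGroup.mk'_surjective _)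
    haveI : C.Normal := (inferInstance : (centralizer _).Normal).comap π
    refine mem_map_of_mem π (CfsgLib.Solvable.le_pCore 2 (inferInstance : C.Normal) ?_ hy)
    intro k
    have hk : (MulAut.conjNormal (k : X) : MulAut Q) ∈ CfsgLib.MetacyclicAut.frattiniKernel Q := by
      intro q
      have h1 : π ((k : X) * q * (k : X)⁻¹) = π q := by
        have hk' := mem_centralizer_iff.1 k.2 (π q) (mem_map_of_mem π q.2)
        rw [map_mul, map_mul, map_inv, ← hk', mul_inv_cancel_right]
      have hmem : (((MulAut.conjNormal (k : X) : MulAut Q) q * q⁻¹ : Q) : X) ∈ frat X := by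
        apply (QuotientGroup.eq_one_iff _).1
        show π _ = 1
        rw [Subgroup.coe_mul, MulAut.conjNormal_apply, map_mul, h1, ← map_mul, Subgroup.coe_inv,
          mul_inv_cancel, map_one]
      obtain ⟨w, hw, hwe⟩ := hmem
      have e : w = (MulAut.conjNormal (k : X) : MulAut Q) q * q⁻¹ := Subtype.ext hwe
      rw [e] at hw
      exact hw
    obtain ⟨i, hi⟩ := CfsgLib.MetacyclicAut.isPGroup_frattiniKernel (p := 2) hQ ⟨_, hk⟩
    have hmem : (k : X) ^ 2 ^ i ∈ Q := by
      apply centralizer_pCore_le hc hO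
      rw [Subgroup.mem_centralizer_iff]
      intro q hq
      have h2 := DFunLike.congr_fun (congrArg Subtype.val hi) ⟨q, hq⟩
      simp only [SubgroupClass.coe_pow, OneMemClass.coe_one, MulAut.one_apply, ← map_pow] at h2
      have h3 := congrArg Subtype.val h2
      rw [MulAut.conjNormal_apply] at h3
      exact (mul_inv_eq_iff_eq_mul.mp h3).symm
    obtain ⟨j, hj⟩ := hQ ⟨_, hmem⟩
    refine ⟨i + j, Subtype.ext ?_⟩
    rw [SubgroupClass.coe_pow, pow_add, pow_mul]
    exact congrArg Subtype.val hj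

/-- No symmetric group of degree six acts on `O₂(X)` inside a group of sectional rank four. -/
theorem false_of_six_quotient (hc : Cfsg.IsPConstrained 2 X) (hO : Cfsg.oddCore X = ⊥)
    (h4 : Cfsg.SectionalPRankLE 2 4 ↥(Cfsg.pCore 2 X)) (hX : Cfsg.SectionalPRankLE 2 4 X)
    [(Cfsg.pCore 2 X).Normal]
    (ψ : Equiv.Perm (Fin 6) →* X ⧸ Cfsg.pCore 2 X) (hψ : Function.Injective ψ) : False := by
  haveI : (frat X).Normal := frat_normal
  obtain ⟨hN, hab, hsq, hcard, hC⟩ := exists_module hc hO h4
  haveI := hN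
  exact false_of_six (CfsgLib.TwoMetacyclic.sectional_quotient hX (frat X)) _ hab hsq hcard hC
    ((QuotientGroup.quotientQuotientEquivQuotient (frat X) (Cfsg.pCore 2 X) frat_le).symm.toMonoidHom.comp ψ)
    ((QuotientGroup.quotientQuotientEquivQuotient (frat X) (Cfsg.pCore 2 X) frat_le).symm.injective.comp hψ)

end CfsgLib.SectRankFour
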