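import Mathlib

/-!
An extraspecial group of order 32 whose number of singular vectors is a multiple of five is the central
product of a quaternion group and a dihedral group of order eight.
-/

set_option autoImplicit false
set_option linter.unusedSectionVars false
set_option linter.style.haveILetI false

namespace CfsgLib.SectRankFour

open Subgroup

variable {Q : Type*} [Group Q]

/-- `x^a` for a bit `a`. -/
def bp (x : Q) (a : Bool) : Q := if a then x else 1

/-- The square of a word in two anticommuting generators. -/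
def qf (s t a b : Bool) : Bool := xor (xor (a && s) (b && t)) (a && b)

theorem bit_count : ∀ s₁ t₁ s₂ t₂ : Bool,
    5 ∣ Fintype.card {i : (Bool × Bool) × (Bool × Bool) //
      i ≠ ((false, false), (false, false)) ∧ xor (qf s₁ t₁ i.1.1 i.1.2) (qf s₂ t₂ i.2.1 i.2.2) = false} →
    ((s₁ && t₁) = true ∧ (s₂ && t₂) = false) ∨ ((s₂ && t₂) = true ∧ (s₁ && t₁) = false) := by decide +kernel

theorem pow_val_add {x : Q} (hx : x ^ 4 = 1) (i j : ZMod 4) : x ^ (i + j).val = x ^ i.val * x ^ j.val := by
  rw [← pow_add, ZMod.val_add, ← pow_eq_pow_mod _ hx]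

theorem pow_val_neg {x : Q} (hx : x ^ 4 = 1) (i : ZMod 4) : x ^ (-i).val = (x ^ i.val)⁻¹ :=
  eq_inv_of_mul_eq_one_left (by rw [← pow_val_add hx, neg_add_cancel, ZMod.val_zero, pow_zero])

theorem pow_val_sub {x : Q} (hx : x ^ 4 = 1) (i j : ZMod 4) : x ^ (i - j).val = x ^ i.val * (x ^ j.val)⁻¹ := by
  rw [sub_eq_add_neg, pow_val_add hx, pow_val_neg hx]

theorem pow_mul_conj {x y : Q} (hxy : y * x * y⁻¹ = x⁻¹) (n : ℕ) : x ^ n * y = y * (x ^ n)⁻¹ := by
  have h : y * (x ^ n)⁻¹ * y⁻¹ = x ^ n := by
    rw [← conj_inv, ← conj_pow, hxy, inv_pow, inv_inv]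
  exact mul_inv_eq_iff_eq_mul.1 h |>.symm

theorem closure_pair_eq_range {M : Type*} [Group M] (φ : M →* Q) {x y : Q} (hx : x ∈ φ.range) (hy : y ∈ φ.range)
    (h : ∀ m, φ m ∈ closure ({x, y} : Set Q)) : φ.range = closure ({x, y} : Set Q) :=
  le_antisymm (by rintro - ⟨m, rfl⟩; exact h m)
    ((closure_le _).2 (by rintro w (rfl | rfl) <;> assumption))

theorem nonempty_quaternion {x y : Q} (hx : x ^ 4 = 1) (hx2 : x ^ 2 ≠ 1) (hy : y * y = x ^ 2)
    (hxy : y * x * y⁻¹ = x⁻¹) (hne : x * y ≠ y * x) :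
    Nonempty (closure ({x, y} : Set Q) ≃* QuaternionGroup 2) := by
  let g : QuaternionGroup 2 → Q := fun w => match w with
    | .a i => x ^ i.val
    | .xa i => y * x ^ i.val
  let φ : QuaternionGroup 2 →* Q := MonoidHom.mk' g (by
    rintro (i | i) (j | j)
    · exact pow_val_add hx i j
    · show y * x ^ (j - i).val = x ^ i.val * (y * x ^ j.val)
      rw [← mul_assoc, pow_mul_conj hxy, pow_val_sub hx, mul_assoc,
        ((Commute.refl x).pow_pow _ _).inv_right.eq]
    · show y * x ^ (i + j).val = y * x ^ i.val * x ^ j.val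
      rw [pow_val_add hx, mul_assoc]
    · show x ^ ((2 : ZMod 4) + j - i).val = y * x ^ i.val * (y * x ^ j.val)
      rw [pow_val_sub hx, pow_val_add hx, show (2 : ZMod 4).val = 2 from rfl, ← mul_assoc, mul_assoc y (x ^ i.val),
        pow_mul_conj hxy, ← mul_assoc, hy, mul_assoc, mul_assoc,
        ((Commute.refl x).pow_pow j.val i.val).inv_right.eq])
  have hinj : Function.Injective φ := by
    rw [← MonoidHom.ker_eq_bot_iff, eq_bot_iff]
    rintro (i | i) hw
    · have hi : x ^ i.val = 1 := hw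
      rw [Subgroup.mem_bot, show (QuaternionGroup.a i : QuaternionGroup 2) = 1 ↔ i = 0 from
        ⟨fun h => by injection h, fun h => by rw [h]; rfl⟩]
      have hlt := ZMod.val_lt i
      apply (ZMod.val_eq_zero i).1
      have hv : i.val = 0 ∨ i.val = 1 ∨ i.val = 2 ∨ i.val = 3 := by omega
      rcases hv with h | h | h | h <;> rw [h] at hi
      · exact h
      · rw [pow_one] at hi; exact absurd (by rw [hi, one_pow]) hx2
      · exact absurd hi hx2
      · have : x = 1 := by
          calc x = x ^ 4 * (x ^ 3)⁻¹ := by group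
            _ = 1 := by rw [hx, hi, inv_one, mul_one]
        exact absurd (by rw [this, one_pow]) hx2
    · have hi : y * x ^ i.val = 1 := hw
      refine absurd ?_ hne
      rw [eq_inv_of_mul_eq_one_left hi]
      exact ((Commute.refl x).pow_right _).inv_right.eq
  refine ⟨(MulEquiv.subgroupCongr ?_).trans (MonoidHom.ofInjective hinj).symm⟩
  refine (closure_pair_eq_range φ ⟨.a 1, by show x ^ (1 : ZMod 4).val = x; rw [show (1 : ZMod 4).val = 1 from rfl, pow_one]⟩
    ⟨.xa 0, by show y * x ^ (0 : ZMod 4).val = y; rw [ZMod.val_zero, pow_zero, mul_one]⟩ ?_).symm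
  rintro (i | i)
  · show x ^ i.val ∈ closure ({x, y} : Set Q)
    exact pow_mem (Subgroup.subset_closure (Set.mem_insert x _)) _
  · show y * x ^ i.val ∈ closure ({x, y} : Set Q)
    exact mul_mem (Subgroup.subset_closure (Set.mem_insert_of_mem _ rfl))
      (pow_mem (Subgroup.subset_closure (Set.mem_insert x _)) _)

theorem nonempty_dihedral_four {x y : Q} (hx : x ^ 4 = 1) (hx2 : x ^ 2 ≠ 1) (hy : y * y = 1)
    (hxy : y * x * y⁻¹ = x⁻¹) (hne : x * y ≠ y * x) :
    Nonempty (closure ({x, y} : Set Q) ≃* DihedralGroup 4) := by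
  let g : DihedralGroup 4 → Q := fun w => match w with
    | .r i => x ^ i.val
    | .sr i => y * x ^ i.val
  let φ : DihedralGroup 4 →* Q := MonoidHom.mk' g (by
    rintro (i | i) (j | j)
    · exact pow_val_add hx i j
    · show y * x ^ (j - i).val = x ^ i.val * (y * x ^ j.val)
      rw [← mul_assoc, pow_mul_conj hxy, pow_val_sub hx, mul_assoc,
        ((Commute.refl x).pow_pow _ _).inv_right.eq]
    · show y * x ^ (i + j).val = y * x ^ i.val * x ^ j.val
      rw [pow_val_add hx, mul_assoc]
    · show x ^ (j - i).val = y * x ^ i.val * (y * x ^ j.val)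
      rw [pow_val_sub hx, ← mul_assoc, mul_assoc y (x ^ i.val),
        pow_mul_conj hxy, ← mul_assoc, hy, one_mul,
        ((Commute.refl x).pow_pow j.val i.val).inv_right.eq])
  have hinj : Function.Injective φ := by
    rw [← MonoidHom.ker_eq_bot_iff, eq_bot_iff]
    rintro (i | i) hw
    · have hi : x ^ i.val = 1 := hw
      rw [Subgroup.mem_bot, show (DihedralGroup.r i : DihedralGroup 4) = 1 ↔ i = 0 from
        ⟨fun h => by injection h, fun h => by rw [h]; rfl⟩]
      have hlt := ZMod.val_lt i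
      apply (ZMod.val_eq_zero i).1
      have hv : i.val = 0 ∨ i.val = 1 ∨ i.val = 2 ∨ i.val = 3 := by omega
      rcases hv with h | h | h | h <;> rw [h] at hi
      · exact h
      · rw [pow_one] at hi; exact absurd (by rw [hi, one_pow]) hx2
      · exact absurd hi hx2
      · have : x = 1 := by
          calc x = x ^ 4 * (x ^ 3)⁻¹ := by group
            _ = 1 := by rw [hx, hi, inv_one, mul_one]
        exact absurd (by rw [this, one_pow]) hx2
    · have hi : y * x ^ i.val = 1 := hw
      refine absurd ?_ hne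
      rw [eq_inv_of_mul_eq_one_left hi]
      exact ((Commute.refl x).pow_right _).inv_right.eq
  refine ⟨(MulEquiv.subgroupCongr ?_).trans (MonoidHom.ofInjective hinj).symm⟩
  refine (closure_pair_eq_range φ ⟨.r 1, by show x ^ (1 : ZMod 4).val = x; rw [show (1 : ZMod 4).val = 1 from rfl, pow_one]⟩
    ⟨.sr 0, by show y * x ^ (0 : ZMod 4).val = y; rw [ZMod.val_zero, pow_zero, mul_one]⟩ ?_).symm
  rintro (i | i)
  · show x ^ i.val ∈ closure ({x, y} : Set Q)
    exact pow_mem (Subgroup.subset_closure (Set.mem_insert x _)) _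
  · show y * x ^ i.val ∈ closure ({x, y} : Set Q)
    exact mul_mem (Subgroup.subset_closure (Set.mem_insert_of_mem _ rfl))
      (pow_mem (Subgroup.subset_closure (Set.mem_insert x _)) _)

variable [Finite Q]

/-- The structure of an extraspecial group of order 32 with five singular vectors. -/
theorem quaternion_dihedral {V : Type*} [CommGroup V] [Finite V] (p : Q →* V) (hp : Function.Surjective p)
    (hker : p.ker = center Q) (h2 : ∀ v : V, v * v = 1) (hV : Nat.card V = 16) (hZ : Nat.card (center Q) = 2)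
    (h5 : 5 ∣ Nat.card {v : V // v ≠ 1 ∧ ∀ x, p x = v → x * x = 1}) :
    ∃ A B : Subgroup Q, Nonempty (↥A ≃* QuaternionGroup 2) ∧ Nonempty (↥B ≃* DihedralGroup 4) ∧
      (∀ a ∈ A, ∀ b ∈ B, a * b = b * a) ∧ A ⊔ B = ⊤ ∧ A ⊓ B = center Q := by
  classical
  obtain ⟨zc, hzc1, hzc⟩ : ∃ zc : center Q, zc ≠ 1 ∧ ∀ w, w = 1 ∨ w = zc := by
    obtain ⟨a, b, hab, huniv⟩ := Nat.card_eq_two_iff.1 hZ
    have hu : ∀ w, w = a ∨ w = b := fun w => by
      have : w ∈ ({a, b} : Set (center Q)) := huniv ▸ Set.mem_univ w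
      simpa using this
    rcases hu 1 with h | h
    · exact ⟨b, fun e => hab (h.symm.trans e.symm), fun w => (hu w).imp (fun e => e.trans h.symm) id⟩
    · exact ⟨a, fun e => hab (e.trans h), fun w => (hu w).symm.imp (fun e => e.trans h.symm) id⟩
  set z : Q := (zc : Q) with hz
  have hz1 : z ≠ 1 := fun h => hzc1 (Subtype.ext h)
  have hcen : ∀ g : Q, g ∈ center Q → g = 1 ∨ g = z := fun g hg =>
    (hzc ⟨g, hg⟩).imp (congrArg Subtype.val) (congrArg Subtype.val)
  have hzc' : ∀ g, g * z = z * g := fun g => mem_center_iff.1 zc.2 g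
  have hzz : z * z = 1 := by
    rcases hcen (z * z) (mul_mem zc.2 zc.2) with h | h
    · exact h
    · exact absurd (mul_eq_left.1 h) hz1
  have hzinv : z⁻¹ = z := inv_eq_of_mul_eq_one_right hzz
  have hsqc : ∀ g : Q, g * g ∈ center Q := fun g => by rw [← hker, MonoidHom.mem_ker, map_mul, h2]
  have hcomc : ∀ g h : Q, g * h * g⁻¹ * h⁻¹ ∈ center Q := fun g h => by
    rw [← hker, MonoidHom.mem_ker, map_mul, map_mul, map_mul, map_inv, map_inv, mul_comm (p g), mul_inv_cancel_right,
      mul_inv_cancel]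
  -- the commutator characters
  let χ : Q → Q →* Q := fun h => MonoidHom.mk' (fun g => g * h * g⁻¹ * h⁻¹) (fun a b => by
    have h1 := mem_center_iff.1 (hcomc b h) a
    calc a * b * h * (a * b)⁻¹ * h⁻¹ = (a * (b * h * b⁻¹ * h⁻¹)) * h * a⁻¹ * h⁻¹ := by group
      _ = ((b * h * b⁻¹ * h⁻¹) * a) * h * a⁻¹ * h⁻¹ := by rw [h1]
      _ = (b * h * b⁻¹ * h⁻¹) * (a * h * a⁻¹ * h⁻¹) := by group
      _ = _ := (mem_center_iff.1 (hcomc b h) _).symm)
  have hχ : ∀ h g, χ h g = g * h * g⁻¹ * h⁻¹ := fun h g => rfl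
  have hχ1 : ∀ h g, χ h g = 1 ↔ g * h = h * g := fun h g => by
    rw [hχ, mul_inv_eq_one, mul_inv_eq_iff_eq_mul]
  have hχz : ∀ h g, g * h ≠ h * g → χ h g = z := fun h g hne =>
    (hcen _ (hcomc g h)).resolve_left fun e => hne ((hχ1 h g).1 e)
  have hχsymm : ∀ h g, g * h ≠ h * g → χ g h = z := fun h g hne => hχz g h (Ne.symm hne)
  have hχc : ∀ h g, g ∈ center Q → χ h g = 1 := fun h g hg => (hχ1 h g).2 (mem_center_iff.1 hg h).symm
  -- two anticommuting pairs
  obtain ⟨x, y, hxy⟩ : ∃ x y : Q, x * y ≠ y * x := by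
    by_contra! hall
    have htop : center Q = ⊤ := eq_top_iff.2 fun g _ => mem_center_iff.2 fun h => hall h g
    have h16 := p.ker.card_mul_index
    rw [index_ker, MonoidHom.range_eq_top.2 hp, card_top, hV, hker, hZ] at h16
    rw [htop, card_top] at hZ
    omega
  have hQ32 : Nat.card Q = 32 := by
    have h := p.ker.card_mul_index
    rw [index_ker, MonoidHom.range_eq_top.2 hp, card_top, hV, hker, hZ] at h
    omega
  obtain ⟨u, v, hux, huy, hvx, hvy, huv⟩ : ∃ u v : Q, u * x = x * u ∧ u * y = y * u ∧ v * x = x * v ∧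
      v * y = y * v ∧ u * v ≠ v * u := by
    by_contra! hall
    let dec : Q → Bool × Bool := fun g => (decide (χ y g ≠ 1), decide (χ x g ≠ 1))
    let rest : Q → Q := fun g => (bp x (dec g).1 * bp y (dec g).2)⁻¹ * g
    have hvals : ∀ h g, χ h g = if χ h g = 1 then 1 else z := fun h g => by
      split_ifs with e
      · exact e
      · exact (hcen _ (hcomc g h)).resolve_left e
    have hrest : ∀ g, rest g * x = x * rest g ∧ rest g * y = y * rest g := by
      intro g
      have hzi : z⁻¹ * z = 1 := inv_mul_cancel z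
      constructor <;> rw [← hχ1] <;> simp only [rest, dec, map_mul, map_inv, mul_inv_rev]
      · have e1 : χ x x = 1 := (hχ1 x x).2 rfl
        have e2 : χ x y = z := hχsymm y x hxy
        rcases hcen (χ y g) (hcomc g y) with e3 | e3 <;> rcases hcen (χ x g) (hcomc g x) with e4 | e4 <;>
          simp [bp, e1, e2, e3, e4, hz1, hzinv, hzz]
      · have e1 : χ y y = 1 := (hχ1 y y).2 rfl
        have e2 : χ y x = z := hχz y x hxy
        rcases hcen (χ y g) (hcomc g y) with e3 | e3 <;> rcases hcen (χ x g) (hcomc g x) with e4 | e4 <;>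
          simp [bp, e1, e2, e3, e4, hz1, hzinv, hzz]
    have hrc : ∀ g, rest g ∈ center Q := by
      intro g
      refine mem_center_iff.2 fun h => ?_
      have hh : h = bp x (dec h).1 * bp y (dec h).2 * rest h := (mul_inv_cancel_left _ h).symm
      have c1 : Commute (bp x (dec h).1) (rest g) := by
        cases (dec h).1 <;> simp [bp, Commute, SemiconjBy, (hrest g).1]
      have c2 : Commute (bp y (dec h).2) (rest g) := by
        cases (dec h).2 <;> simp [bp, Commute, SemiconjBy, (hrest g).2]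
      have c3 : Commute (rest h) (rest g) := hall _ _ (hrest h).1 (hrest h).2 (hrest g).1 (hrest g).2
      rw [hh]; exact ((c1.mul_left c2).mul_left c3).eq
    have hinj : Function.Injective fun g : Q => ((dec g), (⟨rest g, hrc g⟩ : center Q)) := by
      intro a b h
      simp only [Prod.mk.injEq, Subtype.mk.injEq, rest] at h
      obtain ⟨h1, h2⟩ := h
      rw [h1] at h2
      exact mul_left_cancel h2
    have h8 := Nat.card_le_card_of_injective _ hinj
    rw [Nat.card_prod, Nat.card_prod, hQ32, hZ, Nat.card_eq_fintype_card, Fintype.card_bool] at h8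
    omega
  have hxu : χ x u = 1 := (hχ1 x u).2 hux
  have hyu : χ y u = 1 := (hχ1 y u).2 huy
  have hxv : χ x v = 1 := (hχ1 x v).2 hvx
  have hyv : χ y v = 1 := (hχ1 y v).2 hvy
  have hux' : χ u x = 1 := (hχ1 u x).2 hux.symm
  have huy' : χ u y = 1 := (hχ1 u y).2 huy.symm
  have hvx' : χ v x = 1 := (hχ1 v x).2 hvx.symm
  have hvy' : χ v y = 1 := (hχ1 v y).2 hvy.symm
  have hyx : χ y x = z := hχz y x hxy
  have hxy' : χ x y = z := hχsymm y x hxy
  have hvu : χ v u = z := hχz v u huv
  have huv' : χ u v = z := hχsymm v u huv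
  have hself : ∀ g, χ g g = 1 := fun g => (hχ1 g g).2 rfl
  let F : (Bool × Bool) × (Bool × Bool) → Q := fun i => bp x i.1.1 * bp y i.1.2 * (bp u i.2.1 * bp v i.2.2)
  have hFy : ∀ i, χ y (F i) = bp z i.1.1 := fun ⟨⟨a, b⟩, ⟨c, d⟩⟩ => by
    cases a <;> cases b <;> cases c <;> cases d <;> simp [F, bp, hyx, hyu, hyv, hself]
  have hFx : ∀ i, χ x (F i) = bp z i.1.2 := fun ⟨⟨a, b⟩, ⟨c, d⟩⟩ => by
    cases a <;> cases b <;> cases c <;> cases d <;> simp [F, bp, hxy', hxu, hxv, hself]
  have hFv : ∀ i, χ v (F i) = bp z i.2.1 := fun ⟨⟨a, b⟩, ⟨c, d⟩⟩ => by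
    cases a <;> cases b <;> cases c <;> cases d <;> simp [F, bp, hvx', hvy', hvu, hself]
  have hFu : ∀ i, χ u (F i) = bp z i.2.2 := fun ⟨⟨a, b⟩, ⟨c, d⟩⟩ => by
    cases a <;> cases b <;> cases c <;> cases d <;> simp [F, bp, hux', huy', huv', hself]
  have hbp : ∀ a b : Bool, bp z a = bp z b → a = b := by
    intro a b; cases a <;> cases b <;> simp [bp, hz1, Ne.symm hz1]
  have hFinj : Function.Injective fun i => p (F i) := by
    intro i j hij
    have hc : (F i)⁻¹ * F j ∈ center Q := by
      rw [← hker, MonoidHom.mem_ker, map_mul, map_inv, inv_mul_eq_one]; exact hij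
    have key : ∀ h, χ h (F i) = χ h (F j) := fun h => by
      have := hχc h _ hc
      rwa [map_mul, map_inv, inv_mul_eq_one] at this
    exact Prod.ext (Prod.ext (hbp _ _ ((hFy i).symm.trans ((key y).trans (hFy j))))
        (hbp _ _ ((hFx i).symm.trans ((key x).trans (hFx j)))))
      (Prod.ext (hbp _ _ ((hFv i).symm.trans ((key v).trans (hFv j))))
        (hbp _ _ ((hFu i).symm.trans ((key u).trans (hFu j)))))
  have hFbij : Function.Bijective fun i => p (F i) := by
    refine (Nat.bijective_iff_injective_and_card _).2 ⟨hFinj, ?_⟩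
    rw [hV, Nat.card_eq_fintype_card]; rfl
  -- squares
  obtain ⟨σ, hσ⟩ : ∃ σ : Q → Bool, ∀ g, g * g = bp z (σ g) := ⟨fun g => decide (g * g ≠ 1), fun g => by
    rcases hcen _ (hsqc g) with h | h <;> simp [bp, h, hz1]⟩
  have hbz : ∀ a b, bp z a * bp z b = bp z (xor a b) := by
    intro a b; cases a <;> cases b <;> simp [bp, hzz]
  have hbc : ∀ a g, bp z a * g = g * bp z a := by intro a g; cases a <;> simp [bp, hzc' g]
  have hpair : ∀ g h : Q, g * h ≠ h * g → ∀ a b, (bp g a * bp h b) * (bp g a * bp h b) = bp z (qf (σ g) (σ h) a b) := by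
    intro g h hne a b
    have hhg : h * g = z * g * h := by
      have := hχsymm h g hne
      rw [hχ, mul_inv_eq_iff_eq_mul, mul_inv_eq_iff_eq_mul] at this
      exact this
    cases a <;> cases b
    · simp [bp, qf]
    · simpa [bp, qf] using hσ h
    · simpa [bp, qf] using hσ g
    · simp only [bp, if_true]
      calc g * h * (g * h) = g * (h * g) * h := by group
        _ = (g * z) * g * (h * h) := by rw [hhg]; group
        _ = z * (g * g) * (h * h) := by rw [hzc' g]; group
        _ = bp z true * bp z (σ g) * bp z (σ h) := by rw [hσ g, hσ h]; rfl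
        _ = _ := by rw [hbz, hbz]; cases σ g <;> cases σ h <;> rfl
  have hFsq : ∀ i, F i * F i = bp z (xor (qf (σ x) (σ y) i.1.1 i.1.2) (qf (σ u) (σ v) i.2.1 i.2.2)) := by
    intro i
    have hc : Commute (bp u i.2.1 * bp v i.2.2) (bp x i.1.1 * bp y i.1.2) := by
      cases i.1.1 <;> cases i.1.2 <;> cases i.2.1 <;> cases i.2.2 <;>
        simp only [bp, if_true, Bool.false_eq_true, if_false, one_mul, mul_one] <;>
        first
          | exact Commute.one_left _
          | exact Commute.one_right _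
          | exact hux | exact huy | exact hvx | exact hvy
          | exact (show Commute u x from hux).mul_right huy
          | exact (show Commute v x from hvx).mul_right hvy
          | exact (show Commute u x from hux).mul_left hvx
          | exact (show Commute u y from huy).mul_left hvy
          | exact ((show Commute u x from hux).mul_right huy).mul_left ((show Commute v x from hvx).mul_right hvy)
    rw [show F i * F i = (bp x i.1.1 * bp y i.1.2) * (bp x i.1.1 * bp y i.1.2) *
        ((bp u i.2.1 * bp v i.2.2) * (bp u i.2.1 * bp v i.2.2)) from hc.mul_mul_mul_comm _ _,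
      hpair x y hxy, hpair u v huv, hbz]
  have hlift : ∀ g i, p g = p (F i) → g * g = F i * F i := by
    intro g i h
    have hc : (F i)⁻¹ * g ∈ center Q := by rw [← hker, MonoidHom.mem_ker, map_mul, map_inv, inv_mul_eq_one]; exact h.symm
    have hcc : ((F i)⁻¹ * g) * ((F i)⁻¹ * g) = 1 := by
      rcases hcen _ hc with e | e <;> rw [e]
      · exact one_mul 1
      · exact hzz
    have hsub : g = F i * ((F i)⁻¹ * g) := (mul_inv_cancel_left _ g).symm
    rw [hsub, (show Commute ((F i)⁻¹ * g) (F i) from (mem_center_iff.1 hc (F i)).symm).mul_mul_mul_comm, hcc, mul_one]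
  have hF0 : F ((false, false), (false, false)) = 1 := by simp [F, bp]
  have hcount : 5 ∣ Fintype.card {i : (Bool × Bool) × (Bool × Bool) //
      i ≠ ((false, false), (false, false)) ∧
        xor (qf (σ x) (σ y) i.1.1 i.1.2) (qf (σ u) (σ v) i.2.1 i.2.2) = false} := by
    rw [← Nat.card_eq_fintype_card]
    convert h5 using 1
    refine Nat.card_congr (Equiv.subtypeEquiv (Equiv.ofBijective _ hFbij) fun i => ?_)
    simp only [Equiv.ofBijective_apply]
    constructor
    · rintro ⟨h1, h2'⟩
      refine ⟨fun e => h1 (hFinj (show p (F i) = p (F _) by rw [e, hF0, map_one])), fun g hg => ?_⟩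
      rw [hlift g i hg, hFsq, h2']; rfl
    · rintro ⟨h1, h2'⟩
      refine ⟨fun e => h1 (by rw [e, hF0, map_one]), ?_⟩
      have := h2' (F i) rfl
      rw [hFsq] at this
      exact hbp _ false this
  -- assemble
  have main : ∀ x y u v : Q, x * y ≠ y * x → u * v ≠ v * u → u * x = x * u → u * y = y * u → v * x = x * v →
      v * y = y * v → x * x = z → y * y = z → u * u = z → v * v = 1 →
      closure ({x, y, u, v} : Set Q) = ⊤ →
      ∃ A B : Subgroup Q, Nonempty (↥A ≃* QuaternionGroup 2) ∧ Nonempty (↥B ≃* DihedralGroup 4) ∧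
        (∀ a ∈ A, ∀ b ∈ B, a * b = b * a) ∧ A ⊔ B = ⊤ ∧ A ⊓ B = center Q := by
    intro x y u v hxy huv hux huy hvx hvy hx hy hu hv hgen
    have hinvz : ∀ g h : Q, g * h ≠ h * g → g * g = z → h * g * h⁻¹ = g⁻¹ := by
      intro g h hne hg
      have := hχsymm h g hne
      rw [hχ, mul_inv_eq_iff_eq_mul] at this
      rw [this, eq_comm, inv_eq_iff_mul_eq_one, ← mul_assoc, hzc' g, mul_assoc, hg, hzz]
    have h4 : ∀ g : Q, g * g = z → g ^ 4 = 1 ∧ g ^ 2 ≠ 1 := fun g hg =>
      ⟨by rw [show (4 : ℕ) = 2 * 2 from rfl, pow_mul, pow_two g, hg, pow_two, hzz], by rw [pow_two, hg]; exact hz1⟩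
    have hcomm : ∀ a ∈ closure ({x, y} : Set Q), ∀ b ∈ closure ({u, v} : Set Q), a * b = b * a := by
      have : closure ({u, v} : Set Q) ≤ centralizer (closure ({x, y} : Set Q) : Set Q) := by
        rw [centralizer_closure, closure_le]
        rintro b (rfl | rfl) <;> rw [SetLike.mem_coe, mem_centralizer_iff] <;> rintro a (rfl | rfl)
        exacts [hux.symm, huy.symm, hvx.symm, hvy.symm]
      exact fun a ha b hb => mem_centralizer_iff.1 (this hb) a ha
    have hsup : closure ({x, y} : Set Q) ⊔ closure ({u, v} : Set Q) = ⊤ := by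
      rw [← Subgroup.closure_union, eq_top_iff, ← hgen]
      refine closure_mono ?_
      rintro g (rfl | rfl | rfl | rfl) <;> simp
    refine ⟨closure {x, y}, closure {u, v},
      nonempty_quaternion (h4 x hx).1 (h4 x hx).2 (by rw [pow_two, hx, hy]) (hinvz x y hxy hx) hxy,
      nonempty_dihedral_four (h4 u hu).1 (h4 u hu).2 hv (hinvz u v huv hu) huv, hcomm, hsup, ?_⟩
    refine le_antisymm (fun g hg => mem_center_iff.2 fun h => ?_) fun g hg => ?_
    · have hle : closure ({x, y} : Set Q) ⊔ closure ({u, v} : Set Q) ≤ centralizer ({g} : Set Q) :=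
        sup_le (fun a ha => mem_centralizer_singleton_iff.2 (hcomm a ha g hg.2))
          (fun b hb => mem_centralizer_singleton_iff.2 (hcomm g hg.1 b hb).symm)
      exact mem_centralizer_singleton_iff.1 (hle (hsup ▸ mem_top h))
    · rcases hcen g hg with rfl | rfl
      · exact one_mem _
      · exact ⟨hx ▸ mul_mem (Subgroup.subset_closure (Or.inl rfl)) (Subgroup.subset_closure (Or.inl rfl)),
          hu ▸ mul_mem (Subgroup.subset_closure (Or.inl rfl)) (Subgroup.subset_closure (Or.inl rfl))⟩
  have hgen : ∀ T : Subgroup Q, x ∈ T → y ∈ T → u ∈ T → v ∈ T → z ∈ T → T = ⊤ := by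
    intro T hx hy hu hv hzT
    refine eq_top_iff.2 fun g _ => ?_
    obtain ⟨i, hi⟩ := hFbij.2 (p g)
    have hmem : F i ∈ T := by
      refine mul_mem (mul_mem ?_ ?_) (mul_mem ?_ ?_)
      all_goals
        simp only [bp]; split
        · assumption
        · exact one_mem _
    have hc : (F i)⁻¹ * g ∈ center Q := by rw [← hker, MonoidHom.mem_ker, map_mul, map_inv, inv_mul_eq_one]; exact hi
    have hcT : (F i)⁻¹ * g ∈ T := by
      rcases hcen _ hc with e | e <;> rw [e]
      exacts [one_mem _, hzT]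
    have := mul_mem hmem hcT
    rwa [mul_inv_cancel_left] at this
  have hT : ∀ g, σ g = true → g * g = z := fun g h => by rw [hσ g, h]; rfl
  have hF' : ∀ g, σ g = false → g * g = 1 := fun g h => by rw [hσ g, h]; rfl
  have finish : ∀ x y u v : Q, x * y ≠ y * x → u * v ≠ v * u → u * x = x * u → u * y = y * u → v * x = x * v →
      v * y = y * v → (σ x && σ y) = true → (σ u && σ v) = false →
      (∀ T : Subgroup Q, x ∈ T → y ∈ T → u ∈ T → v ∈ T → z ∈ T → T = ⊤) →
      ∃ A B : Subgroup Q, Nonempty (↥A ≃* QuaternionGroup 2) ∧ Nonempty (↥B ≃* DihedralGroup 4) ∧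
        (∀ a ∈ A, ∀ b ∈ B, a * b = b * a) ∧ A ⊔ B = ⊤ ∧ A ⊓ B = center Q := by
    intro x y u v hxy huv hux huy hvx hvy hs hs' hgen
    rw [Bool.and_eq_true] at hs
    have hclo : ∀ u' v' : Q, u ∈ closure ({x, y, u', v'} : Set Q) → v ∈ closure ({x, y, u', v'} : Set Q) →
        closure ({x, y, u', v'} : Set Q) = ⊤ := fun u' v' h1 h2 =>
      hgen _ (Subgroup.subset_closure (Or.inl rfl)) (Subgroup.subset_closure (Or.inr (Or.inl rfl))) h1 h2
        (hT x hs.1 ▸ mul_mem (Subgroup.subset_closure (Or.inl rfl)) (Subgroup.subset_closure (Or.inl rfl)))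
    cases hsu : σ u <;> cases hsv : σ v
    · refine main x y (u * v) u hxy (fun e => huv ?_) ((show Commute u x from hux).mul_left hvx).eq
        ((show Commute u y from huy).mul_left hvy).eq hux huy (hT x hs.1) (hT y hs.2) ?_ (hF' u hsu) ?_
      · rw [mul_assoc] at e
        exact (mul_left_cancel e).symm
      · have := hpair u v huv true true
        simpa [bp, qf, hsu, hsv] using this
      · refine hclo _ _ (Subgroup.subset_closure (by simp)) ?_
        have h1 : u * v ∈ closure ({x, y, u * v, u} : Set Q) := Subgroup.subset_closure (by simp)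
        have h2 : u ∈ closure ({x, y, u * v, u} : Set Q) := Subgroup.subset_closure (by simp)
        simpa using mul_mem (inv_mem h2) h1
    · exact main x y v u hxy (Ne.symm huv) hvx hvy hux huy (hT x hs.1) (hT y hs.2) (hT v hsv) (hF' u hsu)
        (hclo _ _ (Subgroup.subset_closure (by simp)) (Subgroup.subset_closure (by simp)))
    · exact main x y u v hxy huv hux huy hvx hvy (hT x hs.1) (hT y hs.2) (hT u hsu) (hF' v hsv)
        (hclo _ _ (Subgroup.subset_closure (by simp)) (Subgroup.subset_closure (by simp)))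
    · simp [hsu, hsv] at hs'
  rcases bit_count _ _ _ _ hcount with ⟨h1, h2'⟩ | ⟨h1, h2'⟩
  · exact finish x y u v hxy huv hux huy hvx hvy h1 h2' hgen
  · exact finish u v x y huv hxy hux.symm hvx.symm huy.symm hvy.symm h1 h2'
      (fun T a b c d e => hgen T c d a b e)

end CfsgLib.SectRankFour
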