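import Cfsg.Agent.RadFree.Degree

/-!
Non-solvable groups of even permutations of eight points with a nontrivial normal subgroup of odd prime power
order: the normal subgroup is generated by a three-cycle.
-/

set_option autoImplicit false
set_option linter.unusedSectionVars false
set_option linter.style.haveILetI false

namespace CfsgLib.SectRankFour

open Equiv Subgroup

theorem even_of_two {b : Perm (Fin 8)} (hb : Perm.sign b = 1) (hs : b.support.card ≤ 2) : b = 1 := by
  rcases Nat.lt_or_ge b.support.card 2 with h | h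
  · exact Perm.card_support_le_one.1 (by omega)
  · obtain ⟨x, y, hxy, rfl⟩ := Perm.card_support_eq_two.1 (le_antisymm hs h)
    rw [Perm.sign_swap hxy] at hb
    exact absurd hb (by decide)

/-- Even permutations moving only the three points of a three-cycle are its powers. -/
theorem three_point {a b : Perm (Fin 8)} (ha : Perm.sign a = 1) (hb : Perm.sign b = 1) (ha3 : a ^ 3 = 1)
    (hT : a.support.card = 3) (hbT : b.support ⊆ a.support) : b = 1 ∨ b = a ∨ b = a⁻¹ := by
  by_cases hb1 : b = 1
  · exact Or.inl hb1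
  obtain ⟨u, hu⟩ : a.support.Nonempty := Finset.card_pos.1 (by omega)
  have hau : a u ∈ a.support := Perm.apply_mem_support.2 hu
  have haau : a (a u) ∈ a.support := Perm.apply_mem_support.2 hau
  have h3 : a (a (a u)) = u := by
    have := Perm.congr_fun ha3 u
    simpa [pow_succ', Perm.mul_apply] using this
  have hne1 : a u ≠ u := Perm.mem_support.1 hu
  have hne2 : a (a u) ≠ u := fun h => hne1 (by rw [h] at h3; exact h3)
  have hne3 : a (a u) ≠ a u := fun h => hne1 (a.injective h)
  have hsupp : a.support = {u, a u, a (a u)} := by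
    refine (Finset.eq_of_subset_of_card_le ?_ ?_).symm
    · intro v hv
      simp only [Finset.mem_insert, Finset.mem_singleton] at hv
      rcases hv with rfl | rfl | rfl <;> assumption
    · rw [hT, Finset.card_insert_of_notMem (by simp [Ne.symm hne1, Ne.symm hne2]), Finset.card_pair (Ne.symm hne3)]
  have key : ∀ c : Perm (Fin 8), Perm.sign c = 1 → c.support ⊆ a.support → c u = u → c = 1 := by
    intro c hc hcT hcu
    refine even_of_two hc ((Finset.card_le_card (t := a.support.erase u) fun v hv => ?_).trans ?_)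
    · exact Finset.mem_erase.2 ⟨fun h => Perm.mem_support.1 hv (h ▸ hcu), hcT hv⟩
    · rw [Finset.card_erase_of_mem hu, hT]
  have hbu : b u ≠ u := fun h => hb1 (key b hb hbT h)
  have hbmem : b u ∈ a.support := hbT (Perm.apply_mem_support.2 (Perm.mem_support.2 hbu))
  rw [hsupp] at hbmem
  simp only [Finset.mem_insert, Finset.mem_singleton] at hbmem
  have hsub : ∀ c, c.support ⊆ a.support → (c * b).support ⊆ a.support := fun c hc v hv => by
    rcases Finset.mem_union.1 (Perm.support_mul_le _ _ hv) with h | h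
    exacts [hc h, hbT h]
  rcases hbmem with h | h | h
  · exact absurd h hbu
  · refine Or.inr (Or.inl ?_)
    have := key (a⁻¹ * b) (by rw [map_mul, map_inv, ha, hb]; simp)
      (hsub _ (by rw [Perm.support_inv])) (by rw [Perm.mul_apply, h]; simp)
    exact (inv_mul_eq_one.1 this).symm
  · refine Or.inr (Or.inr ?_)
    have := key (a * b) (by rw [map_mul, ha, hb, one_mul]) (hsub _ (Finset.Subset.refl _))
      (by rw [Perm.mul_apply, h, h3])
    exact eq_inv_of_mul_eq_one_right this

theorem support_subset_of_commute {a b : Perm (Fin 8)} (hab : Commute a b) (hb3 : b ^ 3 = 1)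
    (hT : b.support.card = 3) {u : Fin 8} (hua : u ∈ a.support) (hub : u ∈ b.support) :
    b.support ⊆ a.support := by
  have hmap : ∀ v ∈ a.support, b v ∈ a.support := by
    intro v hv
    rw [Perm.mem_support] at hv ⊢
    intro h
    apply hv
    have h' := Perm.congr_fun hab.eq v
    simp only [Perm.mul_apply] at h'
    exact b.injective (h'.symm.trans h)
  have h3 : b (b (b u)) = u := by
    have := Perm.congr_fun hb3 u
    simpa [pow_succ', Perm.mul_apply] using this
  have hne1 : b u ≠ u := Perm.mem_support.1 hub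
  have hne2 : b (b u) ≠ u := fun h => hne1 (by rw [h] at h3; exact h3)
  have hne3 : b (b u) ≠ b u := fun h => hne1 (b.injective h)
  have hsupp : b.support = {u, b u, b (b u)} := by
    refine (Finset.eq_of_subset_of_card_le ?_ ?_).symm
    · intro v hv
      simp only [Finset.mem_insert, Finset.mem_singleton] at hv
      rcases hv with rfl | rfl | rfl
      exacts [hub, Perm.apply_mem_support.2 hub, Perm.apply_mem_support.2 (Perm.apply_mem_support.2 hub)]
    · rw [hT, Finset.card_insert_of_notMem (by simp [Ne.symm hne1, Ne.symm hne2]), Finset.card_pair (Ne.symm hne3)]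
  rw [hsupp]
  intro v hv
  simp only [Finset.mem_insert, Finset.mem_singleton] at hv
  rcases hv with rfl | rfl | rfl
  exacts [hua, hmap _ hua, hmap _ (hmap _ hua)]

/-- A non-solvable even permutation group of degree eight with a normal odd `p`-subgroup. -/
theorem radical_main {Q : Type*} [Group Q] [Finite Q] (f : Q →* Perm (Fin 8)) (hf : Function.Injective f)
    (heven : ∀ x, Perm.sign (f x) = 1) (hns : ¬ Group.IsSolvable Q) {p : ℕ} (hp : p.Prime) (hp2 : p ≠ 2)
    (M : Subgroup Q) [M.Normal] (hM : IsPGroup p M) (hM1 : M ≠ ⊥) :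
    Nat.card M = 3 ∧ p = 3 ∧ ∃ g : Q →* Perm (Fin 5), g.ker = M := by
  classical
  haveI := Fact.mk hp
  have hcardQ : Nat.card Q ∣ 20160 := by
    let f' : Q →* alternatingGroup (Fin 8) := f.codRestrict _ fun x => Perm.mem_alternatingGroup.2 (heven x)
    have h := Subgroup.card_dvd_of_injective f' fun a b h => hf (congrArg Subtype.val h)
    rwa [show Nat.card (alternatingGroup (Fin 8)) = 20160 by
      rw [nat_card_alternatingGroup, Nat.card_fin]; decide] at h
  obtain ⟨n, hn⟩ := IsPGroup.iff_card.1 hM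
  have hn0 : n ≠ 0 := fun h => hM1 (Subgroup.eq_bot_of_card_eq _ (by rw [hn, h, pow_zero]))
  have hMd : p ^ n ∣ 20160 := hn ▸ (card_subgroup_dvd_card M).trans hcardQ
  have hMlist : p ^ n ∈ [3, 9, 5, 7] ∧ ((p = 3) ∨ (p ^ n = p ∧ (p = 5 ∨ p = 7))) := by
    have hp20 : p ∣ 20160 := (dvd_pow_self p hn0).trans hMd
    have hp357 : p = 3 ∨ p = 5 ∨ p = 7 := by
      rw [show (20160 : ℕ) = 2 ^ 6 * (3 ^ 2 * (5 * 7)) from by norm_num] at hp20
      rcases (Nat.Prime.dvd_mul hp).1 hp20 with h | h
      · exact absurd ((Nat.prime_dvd_prime_iff_eq hp Nat.prime_two).1 (hp.dvd_of_dvd_pow h)) hp2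
      rcases (Nat.Prime.dvd_mul hp).1 h with h | h
      · exact Or.inl ((Nat.prime_dvd_prime_iff_eq hp Nat.prime_three).1 (hp.dvd_of_dvd_pow h))
      rcases (Nat.Prime.dvd_mul hp).1 h with h | h
      · exact Or.inr (Or.inl ((Nat.prime_dvd_prime_iff_eq hp (by norm_num)).1 h))
      · exact Or.inr (Or.inr ((Nat.prime_dvd_prime_iff_eq hp (by norm_num)).1 h))
    have hlt : n < 15 := by
      by_contra h
      have h1 := Nat.le_of_dvd (by norm_num) hMd
      have h2 : (2 : ℕ) ^ 15 ≤ p ^ n :=
        (Nat.pow_le_pow_left hp.two_le 15).trans (Nat.pow_le_pow_right hp.pos (by omega))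
      norm_num at h2; omega
    have key : ∀ p ∈ [3, 5, 7], ∀ n ∈ List.range 15, n ≠ 0 → p ^ n ∣ 20160 →
        p ^ n ∈ [3, 9, 5, 7] ∧ ((p = 3) ∨ (p ^ n = p ∧ (p = 5 ∨ p = 7))) := by decide +kernel
    exact key p (by simpa using hp357) n (List.mem_range.2 hlt) hn0 hMd
  obtain ⟨q, hq, hq57, hqQ, hqp⟩ : ∃ q : ℕ, q.Prime ∧ (q = 5 ∨ q = 7) ∧ q ∣ Nat.card Q ∧ q ≠ p := by
    by_contra! hno
    apply hns
    haveI : Group.IsSolvable M :=
      haveI := hM.isNilpotent
      inferInstance
    haveI : Group.IsSolvable (Q ⧸ M) := by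
      refine RadFree.isSolvable_of_dvd_two 2 3 6 2 Nat.prime_two Nat.prime_three ?_
      have h := M.card_eq_card_quotient_mul_card_subgroup
      rw [hn] at h
      have key : ∀ p ∈ [3, 5, 7], ∀ m ∈ [3, 9, 5, 7], ∀ c ∈ Nat.divisors 20160, m ∣ c → p ∣ m →
          (5 ∣ c → p = 5) → (7 ∣ c → p = 7) → c / m ∣ 2 ^ 6 * 3 ^ 2 := by decide +kernel
      have hp357 : p ∈ [3, 5, 7] := by
        rcases hMlist.2 with h | ⟨-, h | h⟩ <;> simp [h]
      have := key p hp357 _ hMlist.1 (Nat.card Q) (Nat.mem_divisors.2 ⟨hcardQ, by norm_num⟩)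
        ⟨Nat.card (Q ⧸ M), by rw [h, mul_comm]⟩ (dvd_pow_self p hn0)
        (fun h5 => (hno 5 (by norm_num) (Or.inl rfl) h5).symm) (fun h7 => (hno 7 (by norm_num) (Or.inr rfl) h7).symm)
      rwa [h, Nat.mul_div_cancel _ (pow_pos hp.pos n)] at this
    exact Group.isSolvable_of_ker_le_range M.subtype (QuotientGroup.mk' M)
      (by rw [QuotientGroup.ker_mk', Subgroup.range_subtype])
  haveI := Fact.mk hq
  obtain ⟨y, hy⟩ := exists_prime_orderOf_dvd_card' (G := Q) q hqQ
  -- the element of order q centralizes M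
  have hcomm : ∀ x ∈ M, y * x = x * y := by
    haveI := Fintype.ofFinite M
    let e : Function.End M := fun x => ⟨y * x * y⁻¹, ‹M.Normal›.conj_mem x x.2 y⟩
    have hek : ∀ k : ℕ, ∀ x : M, ((e ^ k) x : Q) = y ^ k * x * (y ^ k)⁻¹ := by
      intro k
      induction k with
      | zero => intro x; simp; rfl
      | succ k ih =>
        intro x
        rw [pow_succ']
        show ((e ((e ^ k) x)) : Q) = _
        show y * ((e ^ k) x : Q) * y⁻¹ = _
        rw [ih, pow_succ']
        group
    have hq1 : y ^ q = 1 := by rw [← hy, pow_orderOf_eq_one]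
    have hm := Equiv.Perm.card_fixedPoints_modEq (f := e) (p := q) (n := 1)
      (by funext x; exact Subtype.ext (by rw [pow_one, hek, hq1]; simp; rfl))
    let F : Subgroup M := (centralizer ({y} : Set Q)).subgroupOf M
    have hF : Nat.card (Function.fixedPoints e) = Nat.card F := by
      refine Nat.card_congr (Equiv.subtypeEquivRight fun x => ?_)
      rw [mem_subgroupOf, mem_centralizer_singleton_iff]
      constructor
      · intro h
        have h' : y * (x : Q) * y⁻¹ = x := congrArg Subtype.val h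
        exact mul_inv_eq_iff_eq_mul.1 h' |>.symm
      · intro h
        exact Subtype.ext (mul_inv_eq_iff_eq_mul.2 h.symm)
    rw [← Nat.card_eq_fintype_card, ← Nat.card_eq_fintype_card, hF, hn] at hm
    have hFd := hn ▸ Subgroup.card_subgroup_dvd_card F
    have key : ∀ m ∈ [3, 9, 5, 7], ∀ q ∈ [5, 7], ¬ q ∣ m → ∀ c ∈ List.range 10, c ∣ m → m % q = c % q → c = m := by
      decide +kernel
    have hqm : ¬ q ∣ p ^ n := fun h => hqp ((Nat.prime_dvd_prime_iff_eq hq hp).1 (hq.dvd_of_dvd_pow h))
    have hm9 : p ^ n < 10 := by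
      have : ∀ m ∈ [3, 9, 5, 7], m < 10 := by decide
      exact this _ hMlist.1
    have hFc := key _ hMlist.1 q (by rcases hq57 with h | h <;> simp [h]) hqm _
      (List.mem_range.2 (lt_of_le_of_lt (Nat.le_of_dvd (pow_pos hp.pos n) hFd) hm9)) hFd hm
    intro x hx
    have htop : F = ⊤ := Subgroup.eq_top_of_card_eq _ (hFc.trans hn.symm)
    have : (⟨x, hx⟩ : M) ∈ F := htop ▸ mem_top _
    rw [mem_subgroupOf, mem_centralizer_singleton_iff] at this
    exact this.symm
  -- centralizer orders in the symmetric group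
  have hcent : ∀ x ∈ M, x ≠ 1 → orderOf x = 3 ∧ (f x).support.card = 3 := by
    intro x hx hx1
    obtain ⟨k, hk⟩ := hM ⟨x, hx⟩
    have hxk : x ^ p ^ k = 1 := congrArg Subtype.val hk
    obtain ⟨i, -, hi⟩ := (Nat.dvd_prime_pow hp).1 (orderOf_dvd_of_pow_eq_one hxk)
    have hi1 : i = 1 ∨ (p = 3 ∧ i ≤ 2 ∧ i ≠ 0) := by
      have h := hn ▸ Subgroup.orderOf_dvd_natCard M hx
      rw [hi] at h
      have hin := (Nat.pow_dvd_pow_iff_le_right hp.one_lt).1 h
      have hi0 : i ≠ 0 := fun h0 => hx1 (orderOf_eq_one_iff.1 (by rw [hi, h0, pow_zero]))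
      rcases hMlist.2 with h3 | ⟨h1, -⟩
      · have key : ∀ n ∈ List.range 15, 3 ^ n ∈ [3, 9, 5, 7] → n ≤ 2 := by decide
        have hn15 : n < 15 := by
          by_contra hh
          have h1 := Nat.le_of_dvd (by norm_num) hMd
          have h2 : (2 : ℕ) ^ 15 ≤ p ^ n :=
            (Nat.pow_le_pow_left hp.two_le 15).trans (Nat.pow_le_pow_right hp.pos (by omega))
          norm_num at h2; omega
        have := key n (List.mem_range.2 hn15) (h3 ▸ hMlist.1)
        exact Or.inr ⟨h3, by omega, hi0⟩
      · have : n = 1 := Nat.pow_right_injective hp.two_le (by simpa using h1)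
        omega
    have hc : Commute (f y) (f x) := by rw [Commute, SemiconjBy, ← map_mul, ← map_mul, hcomm x hx]
    have hfy : orderOf (f y) = q := by rw [orderOf_injective f hf, hy]
    have hdvd : q ∣ Nat.card (centralizer {f x}) := by
      rw [← hfy]
      exact Subgroup.orderOf_dvd_natCard _ (mem_centralizer_singleton_iff.2 hc.eq)
    have hox : orderOf (f x) = p ^ i := by rw [orderOf_injective f hf, hi]
    rw [Perm.nat_card_centralizer, Fintype.card_fin] at hdvd
    have hsum : (f x).cycleType.sum ≤ 8 := by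
      rw [Perm.sum_cycleType]; exact (Finset.card_le_univ _).trans_eq (Fintype.card_fin 8)
    have hi9 : i = 1 := by
      rcases hi1 with h | ⟨rfl, h2, h0⟩
      · exact h
      by_contra hne
      obtain rfl : i = 2 := by omega
      -- an element of order nine needs nine points
      have hl := hox ▸ Perm.lcm_cycleType (f x)
      have : ∀ r ∈ (f x).cycleType, r ∣ 3 := by
        intro r hr
        have hd : r ∣ 3 ^ 2 := by rw [← hl]; exact Multiset.dvd_lcm hr
        obtain ⟨j, hj, rfl⟩ := (Nat.dvd_prime_pow Nat.prime_three).1 hd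
        interval_cases j
        · norm_num
        · norm_num
        · have := Multiset.le_sum_of_mem hr; omega
      have h93 : (3 : ℕ) ^ 2 ∣ 3 := by rw [← hl]; exact Multiset.lcm_dvd.2 this
      norm_num at h93
    subst hi9
    rw [pow_one] at hox
    obtain ⟨r, hr⟩ := Perm.cycleType_prime_order (by rw [hox]; exact hp)
    rw [hox] at hr
    rw [hr, Multiset.sum_replicate, smul_eq_mul] at hsum
    rw [hr, Multiset.sum_replicate, smul_eq_mul, Multiset.prod_replicate,
      show (Multiset.replicate (r + 1) p).toFinset = {p} by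
        rw [Multiset.toFinset_replicate, if_neg (Nat.succ_ne_zero r)],
      Finset.prod_singleton, Multiset.count_replicate_self] at hdvd
    have key : ∀ p ∈ [3, 5, 7], ∀ q ∈ [5, 7], q ≠ p → ∀ r ∈ List.range 3, (r + 1) * p ≤ 8 →
        q ∣ Nat.factorial (8 - (r + 1) * p) * p ^ (r + 1) * Nat.factorial (r + 1) → p = 3 ∧ r = 0 := by
      decide +kernel
    have hp357 : p ∈ [3, 5, 7] := by
      rcases hMlist.2 with h | ⟨-, h | h⟩ <;> simp [h]
    have hr3 : r < 3 := by nlinarith [hp.two_le, (show p ≠ 2 from hp2), (by omega : 3 ≤ p)]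
    obtain ⟨rfl, rfl⟩ := key p hp357 q (by rcases hq57 with h | h <;> simp [h]) hqp r (List.mem_range.2 hr3) hsum hdvd
    exact ⟨by rw [hi, pow_one], by rw [← Perm.sum_cycleType, hr]; rfl⟩
  obtain ⟨a, ha, ha1⟩ := M.bot_or_exists_ne_one.resolve_left hM1
  obtain ⟨hao, hat⟩ := hcent a ha ha1
  have ha3 : f a ^ 3 = 1 := by rw [← map_pow, ← hao, pow_orderOf_eq_one, map_one]
  have hp3 : p = 3 := by
    obtain ⟨k, hk⟩ := hM ⟨a, ha⟩
    have h := orderOf_dvd_of_pow_eq_one (show a ^ p ^ k = 1 from congrArg Subtype.val hk)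
    rw [hao] at h
    exact ((Nat.prime_dvd_prime_iff_eq Nat.prime_three hp).1 (Nat.prime_three.dvd_of_dvd_pow h)).symm
  have hmem : ∀ b ∈ M, b = 1 ∨ b = a ∨ b = a⁻¹ := by
    intro b hb
    by_cases hb1 : b = 1
    · exact Or.inl hb1
    obtain ⟨hbo, hbt⟩ := hcent b hb hb1
    have hb3 : f b ^ 3 = 1 := by rw [← map_pow, ← hbo, pow_orderOf_eq_one, map_one]
    have habc : Commute a b := by
      have h9 : Nat.card M = 3 ∨ Nat.card M = 3 ^ 2 := by
        rw [hn, hp3]
        have := hMlist.1
        rw [hp3] at this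
        simp only [List.mem_cons, List.not_mem_nil, or_false] at this
        rcases this with h | h | h | h
        · exact Or.inl h
        · exact Or.inr h
        · exact absurd (h ▸ dvd_pow_self 3 hn0 : 3 ∣ 5) (by norm_num)
        · exact absurd (h ▸ dvd_pow_self 3 hn0 : 3 ∣ 7) (by norm_num)
      haveI : Fact (Nat.Prime 3) := ⟨Nat.prime_three⟩
      have hc : IsMulCommutative M := by
        rcases h9 with h | h
        · haveI := isCyclic_of_prime_card h; exact ⟨⟨mul_comm' ⟩⟩
        · exact IsPGroup.isMulCommutative_of_card_eq_prime_sq h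
      exact congrArg Subtype.val (hc.is_comm.comm (⟨a, ha⟩ : M) ⟨b, hb⟩)
    have hfc : Commute (f a) (f b) := habc.map f
    by_cases hd : ∃ u, u ∈ (f a).support ∧ u ∈ (f b).support
    · obtain ⟨u, hua, hub⟩ := hd
      have hsub := support_subset_of_commute hfc hb3 hbt hua hub
      rcases three_point (heven a) (heven b) ha3 hat hsub with h | h | h
      · exact Or.inl (hf (h.trans (map_one f).symm))
      · exact Or.inr (Or.inl (hf h))
      · exact Or.inr (Or.inr (hf (h.trans (map_inv f a).symm)))
    · exfalso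
      push_neg at hd
      have hdis : Perm.Disjoint (f a) (f b) :=
        Perm.disjoint_iff_disjoint_support.2 (Finset.disjoint_left.2 hd)
      have h6 := hdis.card_support_mul
      rw [hat, hbt, ← map_mul] at h6
      by_cases hab1 : a * b = 1
      · rw [hab1, map_one, Perm.support_one] at h6; simp at h6
      · rw [(hcent _ (mul_mem ha hb) hab1).2] at h6; omega
  have hinv : a⁻¹ ≠ a := by
    intro h
    have h2 : a ^ 2 = 1 := by rw [pow_two]; nth_rewrite 1 [← h]; exact inv_mul_cancel a
    have h3 : orderOf a ∣ 2 := orderOf_dvd_of_pow_eq_one h2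
    rw [hao] at h3; norm_num at h3
  have hMset : (M : Set Q) = {1, a, a⁻¹} := Set.ext fun b =>
    ⟨fun hb => by simpa using hmem b hb, by rintro (rfl | rfl | rfl); exacts [one_mem _, ha, inv_mem ha]⟩
  have hM3 : Nat.card M = 3 := by
    show Nat.card (M : Set Q) = 3
    rw [Nat.card_coe_set_eq, hMset]
    exact Set.ncard_eq_three.2 ⟨_, _, _, Ne.symm ha1, Ne.symm (inv_ne_one.2 ha1), Ne.symm hinv, rfl⟩
  refine ⟨hM3, hp3, ?_⟩
  have hfix : ∀ (x : Q) (i : Fin 8), f x i ∈ (f a).support ↔ i ∈ (f a).support := by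
    intro x i
    have hs : (f (x * a * x⁻¹)).support = (f a).support := by
      rcases hmem _ (‹M.Normal›.conj_mem a ha x) with h | h | h
      · exact absurd (conj_eq_one_iff.1 h) ha1
      · rw [h]
      · rw [h, map_inv, Perm.support_inv]
    conv_lhs => rw [← hs, map_mul, map_mul, map_inv]
    rw [Perm.support_conj, Finset.mem_map]
    exact ⟨fun ⟨j, hj, hji⟩ => (f x).injective hji ▸ hj, fun hi => ⟨i, hi, rfl⟩⟩
  let T : Fin 8 → Prop := fun i => i ∉ (f a).support
  let e5 : {i // T i} ≃ Fin 5 := Fintype.equivFinOfCardEq (by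
    rw [Fintype.card_subtype_compl, Fintype.card_fin, Fintype.card_coe, hat])
  let g₀ : Q →* Perm {i // T i} :=
    { toFun := fun x => (f x).subtypePerm fun i => not_congr (hfix x i)
      map_one' := by ext i; simp
      map_mul' := fun x z => Perm.ext fun i => Subtype.ext (by
        show f (x * z) i.1 = f x (f z i.1)
        rw [map_mul]; rfl) }
  refine ⟨e5.permCongrHom.toMonoidHom.comp g₀, ?_⟩
  rw [← MonoidHom.comap_ker, (MonoidHom.ker_eq_bot_iff e5.permCongrHom.toMonoidHom).2 e5.permCongrHom.injective,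
    MonoidHom.comap_bot]
  ext x
  rw [MonoidHom.mem_ker]
  constructor
  · intro h
    have hsub : (f x).support ⊆ (f a).support := by
      intro i hi
      by_contra hia
      have := congrArg Subtype.val (Perm.congr_fun h ⟨i, hia⟩)
      exact Perm.mem_support.1 hi this
    rcases three_point (heven a) (heven x) ha3 hat hsub with h | h | h
    · rw [hf (h.trans (map_one f).symm)]; exact one_mem _
    · rw [hf h]; exact ha
    · rw [hf (h.trans (map_inv f a).symm)]; exact inv_mem ha
  · intro hx
    refine Perm.ext fun i => Subtype.ext ?_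
    show f x i.1 = i.1
    rcases hmem x hx with h | h | h
    · rw [h, map_one]; rfl
    · rw [h]; exact Perm.notMem_support.1 i.2
    · rw [h, map_inv]; exact Perm.inv_eq_iff_eq.2 (Perm.notMem_support.1 i.2).symm

end CfsgLib.SectRankFour
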