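import Cfsg.Agent.SectRankFour.FrattiniLayers

/-!
The structure of `O₂(X)` under an alternating group of degree five in sectional rank four.
-/

set_option autoImplicit false
set_option linter.unusedSectionVars false
set_option linter.style.haveILetI false

namespace CfsgLib.SectRankFour

open Subgroup
open scoped commutatorElement

/-- Counting modulo `p` on an invariant set. -/
theorem modEq_invariant {W : Type*} [CommGroup W] [Finite W] [DecidableEq W] (S : Finset W) {g : MulAut W}
    {p : ℕ} [Fact p.Prime] (hg : g ^ p = 1) (hS : ∀ v ∈ S, g v ∈ S) :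
    S.card ≡ (S.filter (fun v => g v = v)).card [MOD p] := by
  let e : Function.End {v // v ∈ S} := fun v => ⟨g v, hS v v.2⟩
  have hek : ∀ k : ℕ, ∀ v : {v // v ∈ S}, ((e ^ k) v : W) = (g ^ k) v := by
    intro k
    induction k with
    | zero => intro v; rfl
    | succ k ih =>
      intro v
      rw [pow_succ', pow_succ', MulAut.mul_apply, ← ih]
      rfl
  have h := Equiv.Perm.card_fixedPoints_modEq (f := e) (p := p) (n := 1) (by
    funext v
    refine Subtype.ext ?_
    rw [pow_one, hek, hg]; rfl)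
  rw [Fintype.card_coe] at h
  refine h.trans (congrArg (· % p) ?_)
  rw [← Fintype.card_coe]
  exact Fintype.card_congr
    { toFun := fun v => ⟨v.1.1, Finset.mem_filter.2 ⟨v.1.2, congrArg Subtype.val v.2⟩⟩
      invFun := fun v => ⟨⟨v.1, (Finset.mem_filter.1 v.2).1⟩, Subtype.ext (Finset.mem_filter.1 v.2).2⟩
      left_inv := fun v => rfl
      right_inv := fun v => rfl }

universe u

variable {X : Type u} [Group X] [Finite X] [(Cfsg.pCore 2 X).Normal] {f : A5 →* X ⧸ Cfsg.pCore 2 X}

theorem five_dvd_fibre {T : Type*} [DecidableEq T] (D : Mod f) [Fintype D.V] [DecidableEq D.V] (q : D.V → T)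
    (hq : ∀ a v, q (D.α a v) = q v) (w : T) :
    5 ∣ ((Finset.univ.erase (1 : D.V)).filter (fun v => q v = w)).card := by
  haveI : Fact (Nat.Prime 5) := ⟨by norm_num⟩
  obtain ⟨-, -, h1, -, -⟩ := a5_module D.two D.le D.α D.inj
  have h := modEq_invariant (p := 5) ((Finset.univ.erase (1 : D.V)).filter (fun v => q v = w))
    (g := D.α (a5a * a5b)) (by rw [← map_pow, a5_facts.2.2.2.2.2.1, map_one]) (fun v hv => by
      rw [Finset.mem_filter, Finset.mem_erase] at hv ⊢
      exact ⟨⟨fun e => hv.1.1 ((MulEquiv.map_eq_one_iff _).1 e), Finset.mem_univ _⟩, (hq _ v).trans hv.2⟩)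
  have hempty : ((Finset.univ.erase (1 : D.V)).filter (fun v => q v = w)).filter
      (fun v => D.α (a5a * a5b) v = v) = ∅ := by
    refine Finset.filter_eq_empty_iff.2 fun v hv e => ?_
    rw [Finset.mem_filter, Finset.mem_erase] at hv
    haveI := (Nat.card_eq_one_iff_unique.1 h1).1
    exact hv.1.1 (congrArg Subtype.val (Subsingleton.elim
      (⟨v, (mem_ker_delta D.two _ _).2 e⟩ : (delta (D.α (a5a * a5b))).ker) 1))
  rw [hempty, Finset.card_empty] at h
  exact Nat.modEq_zero_iff_dvd.1 h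

/-- An invariant function takes at most two values away from the identity. -/
theorem two_values {T : Type*} (D : Mod f) (q : D.V → T)
    (hq : ∀ a v, q (D.α a v) = q v) (v₁ v₂ v₃ : D.V) (h1 : v₁ ≠ 1) (h2 : v₂ ≠ 1) (h3 : v₃ ≠ 1) :
    q v₁ = q v₂ ∨ q v₁ = q v₃ ∨ q v₂ = q v₃ := by
  classical
  by_contra! hne
  haveI := Fintype.ofFinite D.V
  haveI : Fact (Nat.Prime 3) := ⟨Nat.prime_three⟩
  obtain ⟨h16, -, -, hz, -⟩ := a5_module D.two D.le D.α D.inj
  set S : T → Finset D.V := fun w => (Finset.univ.erase (1 : D.V)).filter (fun v => q v = w)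
  have hdis : ∀ a b, a ≠ b → Disjoint (S a) (S b) := fun a b hab =>
    Finset.disjoint_left.2 fun v ha hb => hab ((Finset.mem_filter.1 ha).2.symm.trans (Finset.mem_filter.1 hb).2)
  have hpos : ∀ v, v ≠ 1 → 5 ≤ (S (q v)).card := fun v hv =>
    Nat.le_of_dvd (Finset.card_pos.2 ⟨v, Finset.mem_filter.2 ⟨Finset.mem_erase.2 ⟨hv, Finset.mem_univ _⟩, rfl⟩⟩)
      (five_dvd_fibre D q hq _)
  have hsum : (S (q v₁)).card + (S (q v₂)).card + (S (q v₃)).card ≤ 15 := by
    rw [← Finset.card_union_of_disjoint (hdis _ _ hne.1),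
      ← Finset.card_union_of_disjoint (Finset.disjoint_union_left.2 ⟨hdis _ _ hne.2.1, hdis _ _ hne.2.2⟩)]
    refine (Finset.card_le_card (t := Finset.univ.erase 1) ?_).trans_eq ?_
    · intro v hv
      simp only [S, Finset.mem_union, Finset.mem_filter] at hv
      rcases hv with (h | h) | h <;> exact h.1
    · rw [Finset.card_erase_of_mem (Finset.mem_univ _), Finset.card_univ, ← Nat.card_eq_fintype_card, h16]
  set F : T → Finset D.V := fun w => (S w).filter (fun v => D.α a5z v = v)
  have hfix : ∀ v, v ≠ 1 → (S (q v)).card = 5 → 2 ≤ (F (q v)).card := fun v hv h5 => by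
    have h := modEq_invariant (p := 3) (S (q v)) (g := D.α a5z)
      (by rw [← map_pow, a5_facts.2.2.2.2.1, map_one]) (fun x hx => by
        simp only [S, Finset.mem_filter, Finset.mem_erase] at hx ⊢
        exact ⟨⟨fun e => hx.1.1 ((MulEquiv.map_eq_one_iff _).1 e), Finset.mem_univ _⟩, (hq _ x).trans hx.2⟩)
    rw [h5] at h
    by_contra hlt
    have h' : 5 % 3 = (F (q v)).card % 3 := h
    omega
  have h5 := hpos v₁ h1; have h5' := hpos v₂ h2; have h5'' := hpos v₃ h3
  have hF : (F (q v₁)).card + (F (q v₂)).card + (F (q v₃)).card + 1 ≤ Nat.card (delta (D.α a5z)).ker := by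
    rw [← Finset.card_union_of_disjoint (Finset.disjoint_filter_filter (hdis _ _ hne.1)),
      ← Finset.card_union_of_disjoint (Finset.disjoint_union_left.2
        ⟨Finset.disjoint_filter_filter (hdis _ _ hne.2.1), Finset.disjoint_filter_filter (hdis _ _ hne.2.2)⟩)]
    rw [Nat.card_eq_fintype_card, Fintype.card_subtype]
    refine le_trans (le_of_eq (Finset.card_insert_of_notMem (a := (1 : D.V)) ?_).symm) (Finset.card_le_card ?_)
    · simp [S, F]
    · intro v hv
      rw [Finset.mem_filter, mem_ker_delta D.two]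
      refine ⟨Finset.mem_univ _, ?_⟩
      simp only [F, Finset.mem_insert, Finset.mem_union, Finset.mem_filter] at hv
      rcases hv with rfl | (h | h) | h
      · exact map_one _
      all_goals exact h.2
  have := hfix v₁ h1 (by omega); have := hfix v₂ h2 (by omega); have := hfix v₃ h3 (by omega)
  omega

variable (hX : Cfsg.SectionalPRankLE 2 4 X) (hf : Function.Injective f)

include hX hf in
/-- `O₂(X)` is elementary of order 16, or its Frattini subgroup is its centre of order two. -/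
theorem radical_layers (D : Mod f) :
    (frattini (Cfsg.pCore 2 X) = ⊥ ∧ Nat.card (Cfsg.pCore 2 X) = 16) ∨
      (Nat.card (frattini (Cfsg.pCore 2 X)) = 2 ∧ Nat.card (Cfsg.pCore 2 X) = 32 ∧
        center (Cfsg.pCore 2 X) = frattini (Cfsg.pCore 2 X) ∧
        5 ∣ Nat.card {v : D.V // v ≠ 1 ∧ ∀ x, D.p x = v → x * x = 1}) := by
  classical
  haveI : Fact (Nat.Prime 2) := ⟨Nat.prime_two⟩
  haveI := Fintype.ofFinite D.V
  set Q := Cfsg.pCore 2 X with hQdef
  have hQ : IsPGroup 2 Q := CfsgLib.Solvable.isPGroup_pCore 2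
  obtain ⟨hV16, -, -, -, hirr⟩ := a5_module D.two D.le D.α D.inj
  have hidx : Nat.card (frattini Q) * 16 = Nat.card Q := by
    have h := D.p.ker.card_mul_index
    rwa [index_ker, MonoidHom.range_eq_top.2 D.surj, card_top, hV16, D.ker] at h
  by_cases hΦ : frattini Q = ⊥
  · exact Or.inl ⟨hΦ, by rw [← hidx, hΦ, card_bot]⟩
  right
  haveI : (frat X).Normal := frat_normal
  set Φ := frat X with hΦdef
  have hΦne : Φ ≠ ⊥ := fun h => hΦ ((map_eq_bot_iff_of_injective _ Q.subtype_injective).1 h)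
  have hsqΦ : ∀ v : Q, (v : X) * v ∈ Φ := fun v =>
    ⟨v * v, by rw [← D.ker]; exact MonoidHom.mem_ker.2 (by rw [map_mul, D.two]), rfl⟩
  set L := low Q Φ with hL
  haveI : L.Normal := low_normal Q Φ
  have hLΦ : L ≤ Φ := low_le Q Φ
  have hLne : L ≠ Φ := low_ne Q Φ hQ frat_le hΦne
  set π := QuotientGroup.mk' L with hπ
  have hcen : ∀ m ∈ Φ, ∀ v : Q, π m * π v = π v * π m := fun m hm v => by
    rw [← commutatorElement_eq_one_iff_mul_comm, ← map_commutatorElement]
    exact (QuotientGroup.eq_one_iff _).2 (mem_low_comm Q Φ hm v.2)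
  have hΦsq : ∀ m ∈ Φ, π m * π m = 1 := fun m hm => by
    rw [← map_mul]; exact (QuotientGroup.eq_one_iff _).2 (mem_low_sq Q Φ hm)
  have hfixΦ := layer_fixed hX hf D L hLΦ (fun m hm v hv => mem_low_comm Q Φ hm hv)
    (fun m hm => mem_low_sq Q Φ hm)
  set sq : Q → X ⧸ L := fun v => π ((v : X) * v) with hsq
  have hsq_congr : ∀ u v : Q, D.p u = D.p v → sq u = sq v := by
    intro u v h
    have hm : v⁻¹ * u ∈ frattini Q := by
      rw [← D.ker, MonoidHom.mem_ker, map_mul, map_inv, h, inv_mul_cancel]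
    have hm' : ((v⁻¹ * u : Q) : X) ∈ Φ := ⟨_, hm, rfl⟩
    have hu : π (u : X) = π (v : X) * π ((v⁻¹ * u : Q) : X) := by
      rw [← map_mul, Subgroup.coe_mul, Subgroup.coe_inv, mul_inv_cancel_left]
    simp only [hsq, map_mul]
    rw [hu, mul_assoc, ← mul_assoc (π ((v⁻¹ * u : Q) : X)), hcen _ hm', mul_assoc (π (v : X)) (π ((v⁻¹ * u : Q) : X)),
      hΦsq _ hm', mul_one]
  let qV : D.V → X ⧸ L := fun a => sq (Function.surjInv D.surj a)
  have hqV : ∀ v, qV (D.p v) = sq v := fun v => hsq_congr _ _ (Function.surjInv_eq D.surj _)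
  have hinv : ∀ a v, qV (D.α a v) = qV v := by
    intro a v
    obtain ⟨v, rfl⟩ := D.surj v
    rw [← D.conj, hqV, hqV]
    show π ((D.lift a * v * (D.lift a)⁻¹) * (D.lift a * v * (D.lift a)⁻¹)) = π ((v : X) * v)
    have h := hfixΦ a (D.lift a) (D.lift_spec a) _ (hsqΦ v)
    rw [show (D.lift a * (v : X) * (D.lift a)⁻¹) * (D.lift a * v * (D.lift a)⁻¹) =
      (D.lift a * ((v : X) * v) * (D.lift a)⁻¹ * ((v : X) * v)⁻¹) * ((v : X) * v) by group, map_mul,
      show π (D.lift a * ((v : X) * v) * (D.lift a)⁻¹ * ((v : X) * v)⁻¹) = 1 from (QuotientGroup.eq_one_iff _).2 h,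
      one_mul]
  -- the commutator form
  have hsq2 : ∀ v, sq v * sq v = 1 := fun v => hΦsq _ (hsqΦ v)
  have hsqc : ∀ v u : Q, sq v * π u = π u * sq v := fun v u => hcen _ (hsqΦ v) u
  have hsqc' : ∀ v u : Q, sq v * sq u = sq u * sq v := fun v u => by
    show sq v * π ((u : X) * u) = π ((u : X) * u) * sq v
    rw [map_mul, ← mul_assoc, hsqc, mul_assoc, hsqc, ← mul_assoc]
  have hcomm : ∀ u v : Q, π (u : X) * π v * (π (u : X))⁻¹ * (π (v : X))⁻¹ = sq (u * v) * sq u * sq v := by
    intro u v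
    have hi : ∀ x, sq x = (sq x)⁻¹ := fun x => (inv_eq_of_mul_eq_one_right (hsq2 x)).symm
    rw [mul_assoc (sq (u * v)), show sq u * sq v = (sq u * sq v)⁻¹ by rw [mul_inv_rev, ← hi, ← hi, hsqc' v u],
      mul_inv_rev]
    have hc : (π (u : X) * π (u : X))⁻¹ * π (v : X) = π (v : X) * (π (u : X) * π (u : X))⁻¹ := by
      rw [← map_mul]
      exact (Commute.inv_left (show Commute (π ((u : X) * u)) (π (v : X)) from hsqc u v)).eq
    simp only [hsq, Subgroup.coe_mul, map_mul]
    symm
    calc π (u : X) * π (v : X) * (π (u : X) * π (v : X)) * ((π (v : X) * π (v : X))⁻¹ * (π (u : X) * π (u : X))⁻¹)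
        = π (u : X) * π (v : X) * (π (u : X) * ((π (v : X))⁻¹ * ((π (u : X) * π (u : X))⁻¹ * π (v : X)) * (π (v : X))⁻¹)) := by
          group
      _ = _ := by rw [hc]; group
  -- the values
  have hval : ∃ v, v ≠ 1 ∧ qV v = 1 := by
    by_contra! hno
    haveI : Nontrivial D.V := Finite.one_lt_card_iff_nontrivial.1 (by rw [hV16]; norm_num)
    obtain ⟨a, ha⟩ := exists_ne (1 : D.V)
    obtain ⟨b, -, hb⟩ := Finset.exists_mem_notMem_of_card_lt_card
      (s := ({1, a} : Finset D.V)) (t := Finset.univ) (by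
        rw [Finset.card_univ, ← Nat.card_eq_fintype_card, hV16]
        exact lt_of_le_of_lt Finset.card_le_two (by norm_num))
    obtain ⟨d, -, hd⟩ := Finset.exists_mem_notMem_of_card_lt_card
      (s := ({1, a, b, a * b} : Finset D.V)) (t := Finset.univ) (by
        rw [Finset.card_univ, ← Nat.card_eq_fintype_card, hV16]
        exact lt_of_le_of_lt Finset.card_le_four (by norm_num))
    simp only [Finset.mem_insert, Finset.mem_singleton, not_or] at hb hd
    obtain ⟨u, rfl⟩ := D.surj a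
    obtain ⟨v, rfl⟩ := D.surj b
    obtain ⟨v', rfl⟩ := D.surj d
    have hnes : ∀ x y : D.V, x ≠ y → x * y ≠ 1 := fun x y hxy h => hxy (by
      rw [eq_inv_of_mul_eq_one_left h, inv_eq_self' D.two])
    have hone : ∀ x : Q, D.p x ≠ 1 → sq x ≠ 1 := fun x hx => by rw [← hqV]; exact hno _ hx
    have n1 : D.p (u * v) ≠ 1 := by rw [map_mul]; exact hnes _ _ (Ne.symm hb.2)
    have n2 : D.p (u * v') ≠ 1 := by rw [map_mul]; exact hnes _ _ (Ne.symm hd.2.1)
    have n3 : D.p (v * v') ≠ 1 := by rw [map_mul]; exact hnes _ _ (Ne.symm hd.2.2.1)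
    have n4 : D.p (u * (v * v')) ≠ 1 := by
      rw [map_mul, map_mul, ← mul_assoc]; exact hnes _ _ (Ne.symm hd.2.2.2)
    have habs : ∀ x y z : Q, D.p x ≠ 1 → D.p y ≠ 1 → D.p z ≠ 1 →
        ∃ k : Q, D.p k ≠ 1 ∧ sq x * sq y * sq z = sq k := by
      intro x y z hx hy hz
      rcases two_values D qV hinv _ _ _ hx hy hz with h | h | h <;> rw [hqV, hqV] at h
      · exact ⟨z, hz, by rw [h, hsq2, one_mul]⟩
      · exact ⟨y, hy, by rw [h, hsqc' z y, mul_assoc, hsq2, mul_one]⟩
      · exact ⟨x, hx, by rw [h, mul_assoc, hsq2, mul_one]⟩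
    obtain ⟨k₁, hk₁, e₁⟩ := habs _ _ _ n1 ha hb.1
    obtain ⟨k₂, hk₂, e₂⟩ := habs _ _ _ n2 ha hd.1
    obtain ⟨k₃, hk₃, e₃⟩ := habs _ _ _ n4 ha n3
    have hbil : sq k₃ = sq k₁ * sq k₂ := by
      rw [← e₁, ← e₂, ← e₃, ← hcomm, ← hcomm, ← hcomm]
      have hc1 : π (v : X) * (π (u : X) * π v' * (π (u : X))⁻¹ * (π (v' : X))⁻¹) =
          (π (u : X) * π v' * (π (u : X))⁻¹ * (π (v' : X))⁻¹) * π (v : X) := by
        rw [hcomm]
        exact (((show Commute (sq (u * v')) (π (v : X)) from hsqc _ v).mul_left (hsqc u v)).mul_left (hsqc v' v)).eq.symm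
      rw [Subgroup.coe_mul, map_mul]
      calc π (u : X) * (π (v : X) * π v') * (π (u : X))⁻¹ * (π (v : X) * π v')⁻¹
          = π (u : X) * π v * (π (u : X))⁻¹ *
              ((π (u : X) * π v' * (π (u : X))⁻¹ * (π (v' : X))⁻¹) * (π (v : X))⁻¹) := by group
        _ = π (u : X) * π v * (π (u : X))⁻¹ *
              ((π (v : X))⁻¹ * (π (u : X) * π v' * (π (u : X))⁻¹ * (π (v' : X))⁻¹)) := by
            congr 1
            exact ((Commute.inv_left (show Commute (π (v : X)) _ from hc1)).eq).symm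
        _ = _ := by group
    rcases two_values D qV hinv _ _ _ hk₁ hk₂ hk₃ with h | h | h <;> rw [hqV, hqV] at h
    · rw [h, hsq2] at hbil; exact hone _ hk₃ hbil
    · rw [← h] at hbil; exact hone _ hk₂ (left_eq_mul.1 hbil)
    · rw [← h] at hbil; exact hone _ hk₁ (right_eq_mul.1 hbil)
  obtain ⟨v₀, hv₀, hq0⟩ := hval
  obtain ⟨x₁, hx₁⟩ : ∃ x : Q, sq x ≠ 1 := by
    by_contra! hall
    have hle : frattini Q ≤ L.comap Q.subtype := by
      refine CfsgLib.PGroupBasic.frattini_le_of_elementary (p := 2) _ ?_ (fun x => ?_)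
      · rw [_root_.commutator_def]
        refine commutator_le.2 fun a _ b _ => mem_comap.2 ((QuotientGroup.eq_one_iff (N := L) _).1 ?_)
        show π ((⁅a, b⁆ : Q) : X) = 1
        simp only [commutatorElement_def, Subgroup.coe_mul, Subgroup.coe_inv, map_mul, map_inv]
        rw [hcomm, hall, hall, hall, one_mul, one_mul]
      · refine mem_comap.2 ((QuotientGroup.eq_one_iff (N := L) _).1 ?_)
        show π ((x ^ 2 : Q) : X) = 1
        rw [pow_two, Subgroup.coe_mul]; exact hall x
    exact hLne (le_antisymm hLΦ (map_le_iff_le_comap.2 hle))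
  set w := sq x₁ with hw
  have hvals : ∀ x, sq x = 1 ∨ sq x = w := by
    intro x
    by_cases hx : D.p x = 1
    · left
      rw [hsq_congr x 1 (by rw [hx, map_one])]
      simp [hsq]
    have hx1 : D.p x₁ ≠ 1 := fun h => hx₁ (by rw [hw, hsq_congr x₁ 1 (by rw [h, map_one])]; simp [hsq])
    rcases two_values D qV hinv v₀ _ _ hv₀ hx1 hx with h | h | h
    · rw [hq0, hqV] at h; exact absurd h.symm hx₁
    · rw [hq0, hqV] at h; exact Or.inl h.symm
    · rw [hqV, hqV] at h; exact Or.inr h.symm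
  have hcomm' : ∀ u v : Q, π (u : X) * π v * (π (u : X))⁻¹ * (π (v : X))⁻¹ = 1 ∨
      π (u : X) * π v * (π (u : X))⁻¹ * (π (v : X))⁻¹ = w := by
    intro u v
    rw [hcomm]
    rcases hvals (u * v) with h | h <;> rcases hvals u with h' | h' <;> rcases hvals v with h'' | h'' <;>
      simp [h, h', h'', hw, hsq2]
  have hΦmap : ∀ m ∈ Φ, π m = 1 ∨ π m = w := by
    let H : Subgroup Q :=
      { carrier := {v | π (v : X) = 1 ∨ π (v : X) = w}
        one_mem' := Or.inl (map_one π)
        mul_mem' := by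
          rintro a b (ha | ha) (hb | hb) <;> simp [ha, hb, hw, hsq2]
        inv_mem' := by
          rintro a (ha | ha) <;> simp [ha, hw, inv_eq_of_mul_eq_one_right (hsq2 x₁)] }
    haveI : H.Normal := ⟨fun a ha g => by
      rcases ha with ha | ha
      · exact Or.inl (by simp [ha])
      · refine Or.inr ?_
        rw [Subgroup.coe_mul, Subgroup.coe_mul, Subgroup.coe_inv, map_mul, map_mul, map_inv, ha, hw, ← hsqc,
          mul_inv_cancel_right]⟩
    have hle : frattini Q ≤ H := by
      refine CfsgLib.PGroupBasic.frattini_le_of_elementary (p := 2) _ ?_ (fun x => ?_)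
      · rw [_root_.commutator_def]
        refine commutator_le.2 fun a _ b _ => ?_
        show π ((⁅a, b⁆ : Q) : X) = 1 ∨ π ((⁅a, b⁆ : Q) : X) = w
        simp only [commutatorElement_def, Subgroup.coe_mul, Subgroup.coe_inv, map_mul, map_inv]
        exact hcomm' a b
      · show π ((x ^ 2 : Q) : X) = 1 ∨ π ((x ^ 2 : Q) : X) = w
        rw [pow_two, Subgroup.coe_mul]; exact hvals x
    rintro - ⟨m, hm, rfl⟩
    exact hle hm
  -- a non-commuting pair
  obtain ⟨x, y, hxy⟩ : ∃ x y : Q, π (x : X) * π y * (π (x : X))⁻¹ * (π (y : X))⁻¹ = w := by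
    by_contra! hno
    have hadd : ∀ u v : Q, sq (u * v) = sq u * sq v := fun u v => by
      have h := (hcomm' u v).resolve_right (hno u v)
      rw [hcomm, mul_assoc] at h
      rw [eq_inv_of_mul_eq_one_left h, mul_inv_rev, inv_eq_of_mul_eq_one_right (hsq2 v),
        inv_eq_of_mul_eq_one_right (hsq2 u), hsqc']
    let U : Subgroup D.V :=
      { carrier := {v | qV v = 1}
        one_mem' := by
          show qV 1 = 1
          rw [← map_one D.p, hqV]; simp [hsq]
        mul_mem' := fun {a b} (ha : qV a = 1) (hb : qV b = 1) => by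
          obtain ⟨a, rfl⟩ := D.surj a
          obtain ⟨b, rfl⟩ := D.surj b
          show qV (D.p a * D.p b) = 1
          rw [← map_mul, hqV, hadd, ← hqV, ← hqV, ha, hb, one_mul]
        inv_mem' := fun {a} (ha : qV a = 1) => by
          show qV a⁻¹ = 1
          rw [inv_eq_self' D.two]; exact ha }
    rcases hirr U (fun a v (hv : qV v = 1) => (hinv a v).trans hv) with h | h
    · exact hv₀ (mem_bot.1 (h ▸ (show v₀ ∈ U from hq0)))
    · exact hx₁ (by rw [hw, ← hqV]; exact (h ▸ mem_top (D.p x₁) : D.p x₁ ∈ U))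
  have hzΦ : ((⁅x, y⁆ : Q) : X) ∈ Φ :=
    ⟨⁅x, y⁆, (show ⁅x, y⁆ ∈ frattini Q by
      rw [← D.ker, MonoidHom.mem_ker, map_commutatorElement, commutatorElement_eq_one_iff_mul_comm, mul_comm]), rfl⟩
  set z : X := ((⁅x, y⁆ : Q) : X) with hz
  have hπz : π z = w := by
    rw [hz]
    simp only [commutatorElement_def, Subgroup.coe_mul, Subgroup.coe_inv, map_mul, map_inv]
    exact hxy
  have hsplit : ∀ m ∈ Φ, m ∈ L ∨ z⁻¹ * m ∈ L := fun m hm => by
    rcases hΦmap m hm with h | h
    · exact Or.inl ((QuotientGroup.eq_one_iff _).1 h)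
    · refine Or.inr ((QuotientGroup.eq_one_iff _).1 ?_)
      show π (z⁻¹ * m) = 1
      rw [map_mul, map_inv, hπz, h, inv_mul_cancel]
  -- the second layer vanishes
  have hL1 : L = ⊥ := by
    by_contra hL1
    set M := low Q L with hM
    haveI : M.Normal := low_normal Q L
    have hML : M ≤ L := low_le Q L
    have hMne : M ≠ L := low_ne Q L hQ (hLΦ.trans frat_le) hL1
    set ρ := QuotientGroup.mk' M with hρ
    have hLc : ∀ m ∈ L, ∀ v : Q, ρ m * ρ v = ρ v * ρ m := fun m hm v => by
      rw [← commutatorElement_eq_one_iff_mul_comm, ← map_commutatorElement]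
      exact (QuotientGroup.eq_one_iff _).2 (mem_low_comm Q L hm v.2)
    -- an element outside the Frattini subgroup commuting with x and y modulo L
    obtain ⟨v, hvΦ, hvx, hvy⟩ : ∃ v : Q, v ∉ frattini Q ∧
        π (v : X) * π x = π x * π v ∧ π (v : X) * π y = π y * π v := by
      by_contra! hno
      let g : Q → Bool × Bool := fun v =>
        (decide (π (v : X) * π x * (π (v : X))⁻¹ * (π (x : X))⁻¹ = 1),
          decide (π (v : X) * π y * (π (v : X))⁻¹ * (π (y : X))⁻¹ = 1))
      have hbil : ∀ a b c : Q, π ((a * b : Q) : X) * π c * (π ((a * b : Q) : X))⁻¹ * (π (c : X))⁻¹ =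
          (π (a : X) * π c * (π (a : X))⁻¹ * (π (c : X))⁻¹) * (π (b : X) * π c * (π (b : X))⁻¹ * (π (c : X))⁻¹) := by
        intro a b c
        have h := hcomm b c
        have hcc : π (a : X) * (π (b : X) * π c * (π (b : X))⁻¹ * (π (c : X))⁻¹) =
            (π (b : X) * π c * (π (b : X))⁻¹ * (π (c : X))⁻¹) * π (a : X) := by
          rw [h]
          exact (((show Commute (sq (b * c)) (π (a : X)) from hsqc _ a).mul_left (hsqc b a)).mul_left (hsqc c a)).eq.symm
        have hcc' : (π (b : X) * π c * (π (b : X))⁻¹ * (π (c : X))⁻¹) *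
            (π (a : X) * π c * (π (a : X))⁻¹ * (π (c : X))⁻¹) =
            (π (a : X) * π c * (π (a : X))⁻¹ * (π (c : X))⁻¹) * (π (b : X) * π c * (π (b : X))⁻¹ * (π (c : X))⁻¹) := by
          rcases hcomm' b c with e | e <;> rcases hcomm' a c with e' | e' <;> rw [e, e'] <;> simp
        rw [← hcc', Subgroup.coe_mul, map_mul]
        calc π (a : X) * π b * π c * (π (a : X) * π b)⁻¹ * (π (c : X))⁻¹
            = (π (a : X) * (π (b : X) * π c * (π (b : X))⁻¹ * (π (c : X))⁻¹)) * π c * (π (a : X))⁻¹ * (π (c : X))⁻¹ := by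
              group
          _ = _ := by rw [hcc]; group
      have hfib : ∀ a b : Q, g a = g b → a⁻¹ * b ∈ frattini Q := by
        intro a b h
        by_contra hn
        simp only [g, Prod.mk.injEq, decide_eq_decide] at h
        have hkill : ∀ c : Q, (π (a : X) * π c * (π (a : X))⁻¹ * (π (c : X))⁻¹ = 1 ↔
            π (b : X) * π c * (π (b : X))⁻¹ * (π (c : X))⁻¹ = 1) →
            π ((a⁻¹ * b : Q) : X) * π c = π c * π ((a⁻¹ * b : Q) : X) := by
          intro c hc
          have hb' := hbil a (a⁻¹ * b) c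
          rw [mul_inv_cancel_left] at hb'
          rw [← commutatorElement_eq_one_iff_mul_comm, commutatorElement_def]
          rcases hcomm' a c with e | e
          · rw [hc.1 e, e, one_mul] at hb'; exact hb'.symm
          · have e2 : π (b : X) * π c * (π (b : X))⁻¹ * (π (c : X))⁻¹ = w :=
              (hcomm' b c).resolve_left fun e3 => hx₁ (e.symm.trans (hc.2 e3))
            rw [e, e2] at hb'
            exact left_eq_mul.1 hb'
        exact hno _ hn (hkill x h.1) (hkill y h.2)
      have hinj : Function.Injective (fun c : D.V => g (Function.surjInv D.surj c)) := by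
        intro c d h
        have hm := hfib _ _ h
        rw [← D.ker, MonoidHom.mem_ker, map_mul, map_inv, Function.surjInv_eq D.surj, Function.surjInv_eq D.surj,
          inv_mul_eq_one] at hm
        exact hm
      have h4 := Nat.card_le_card_of_injective _ hinj
      rw [hV16, Nat.card_prod, Nat.card_eq_fintype_card, Fintype.card_bool] at h4
      omega
    -- the centralizer of the first layer
    haveI hΦmapn : (Φ.map ρ).Normal := Subgroup.Normal.map inferInstance ρ (QuotientGroup.mk'_surjective M)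
    set C : Subgroup Q := ((centralizer ((Φ.map ρ : Subgroup (X ⧸ M)) : Set (X ⧸ M))).comap ρ).comap Q.subtype
    have hconjL : ∀ c : Q, π (v : X) * π c = π c * π v → ∃ m ∈ L, ρ (v : X) * ρ c * (ρ (v : X))⁻¹ = ρ m * ρ c := by
      intro c hc
      refine ⟨(v : X) * c * (v : X)⁻¹ * (c : X)⁻¹, (QuotientGroup.eq_one_iff _).1 ?_, ?_⟩
      · show π _ = 1
        rw [map_mul, map_mul, map_mul, map_inv, map_inv, hc, mul_inv_cancel_right, mul_inv_cancel]
      · simp only [map_mul, map_inv, inv_mul_cancel_right]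
    have hvC : v ∈ C := by
      rw [mem_comap, mem_comap, mem_centralizer_iff]
      rintro - ⟨m, hm, rfl⟩
      show ρ m * ρ (v : X) = ρ (v : X) * ρ m
      have hvz : ρ z * ρ (v : X) = ρ (v : X) * ρ z := by
        obtain ⟨a, ha, hax⟩ := hconjL x hvx
        obtain ⟨b, hb, hby⟩ := hconjL y hvy
        have hz' : ρ z = ρ (x : X) * ρ y * (ρ (x : X))⁻¹ * (ρ (y : X))⁻¹ := by
          rw [hz]; simp only [commutatorElement_def, Subgroup.coe_mul, Subgroup.coe_inv, map_mul, map_inv]
        have e : ρ (v : X) * ρ z * (ρ (v : X))⁻¹ = ρ z := by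
          rw [hz']
          calc ρ (v : X) * (ρ (x : X) * ρ y * (ρ (x : X))⁻¹ * (ρ (y : X))⁻¹) * (ρ (v : X))⁻¹
              = (ρ (v : X) * ρ x * (ρ (v : X))⁻¹) * (ρ (v : X) * ρ y * (ρ (v : X))⁻¹) *
                (ρ (v : X) * ρ x * (ρ (v : X))⁻¹)⁻¹ * (ρ (v : X) * ρ y * (ρ (v : X))⁻¹)⁻¹ := by group
            _ = (ρ a * ρ x) * (ρ b * ρ y) * (ρ a * ρ x)⁻¹ * (ρ b * ρ y)⁻¹ := by rw [hax, hby]
            _ = ρ a * (ρ x * ρ b) * ρ y * (ρ (x : X))⁻¹ * (ρ a)⁻¹ * (ρ (y : X))⁻¹ * (ρ b)⁻¹ := by group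
            _ = ρ a * (ρ b * ρ x) * ρ y * (ρ (x : X))⁻¹ * ((ρ a)⁻¹ * (ρ (y : X))⁻¹) * (ρ b)⁻¹ := by
                rw [← hLc b hb x]; group
            _ = ρ a * (ρ b * ρ x) * ρ y * (ρ (x : X))⁻¹ * ((ρ (y : X))⁻¹ * (ρ a)⁻¹) * (ρ b)⁻¹ := by
                rw [(Commute.inv_inv (show Commute (ρ a) (ρ (y : X)) from hLc a ha y)).eq]
            _ = (ρ a * ρ b) * (ρ x * ρ y * (ρ (x : X))⁻¹ * (ρ (y : X))⁻¹) * (ρ a * ρ b)⁻¹ := by
                have hab : ρ a * ρ b = ρ b * ρ a := hLc a ha ⟨b, frat_le (hLΦ hb)⟩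
                rw [show (ρ a * ρ b)⁻¹ = (ρ a)⁻¹ * (ρ b)⁻¹ by rw [hab, mul_inv_rev]]
                group
            _ = _ := by
                have h1 := hLc a ha ⟨z, frat_le hzΦ⟩
                have h2 := hLc b hb ⟨z, frat_le hzΦ⟩
                rw [← hz', mul_assoc (ρ a), h2, ← mul_assoc, h1, mul_assoc (ρ z), mul_inv_cancel_right]
        exact (mul_inv_eq_iff_eq_mul.1 e).symm
      rcases hsplit m hm with h | h
      · exact hLc m h v
      · have hh := hLc _ h v
        rw [show m = z * (z⁻¹ * m) from (mul_inv_cancel_left z m).symm, map_mul, mul_assoc, hh, ← mul_assoc, hvz,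
          mul_assoc]
    have hCtop : C = ⊤ := by
      let U : Subgroup D.V := C.map D.p
      rcases hirr U (by
        rintro a - ⟨c, hc, rfl⟩
        refine ⟨⟨D.lift a * c * (D.lift a)⁻¹, ‹(Cfsg.pCore 2 X).Normal›.conj_mem c c.2 _⟩, ?_, D.conj a c⟩
        show ρ (D.lift a * (c : X) * (D.lift a)⁻¹) ∈ centralizer ((Φ.map ρ : Subgroup (X ⧸ M)) : Set (X ⧸ M))
        rw [map_mul, map_mul, map_inv]
        exact (inferInstance : (centralizer ((Φ.map ρ : Subgroup (X ⧸ M)) : Set (X ⧸ M))).Normal).conj_mem _ hc _)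
        with h | h
      · exact absurd (D.ker ▸ MonoidHom.mem_ker.2 (mem_bot.1 (h ▸ mem_map_of_mem D.p hvC))) hvΦ
      · apply frattini_nongenerating
        rw [← D.ker, ← comap_map_eq, show C.map D.p = ⊤ from h, comap_top]
    have hΦc : ∀ m ∈ Φ, ∀ c : Q, ρ m * ρ c = ρ c * ρ m := fun m hm c =>
      mem_centralizer_iff.1 (show c ∈ C from hCtop ▸ mem_top c) _ (mem_map_of_mem ρ hm)
    have hle : L ≤ M := by
      refine sup_le (commutator_le.2 fun m hm c hc => (QuotientGroup.eq_one_iff _).1 ?_) (normalClosure_le_normal ?_)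
      · show ρ ⁅m, c⁆ = 1
        rw [map_commutatorElement, commutatorElement_eq_one_iff_mul_comm]
        exact hΦc m hm ⟨c, hc⟩
      · rintro - ⟨m, hm, rfl⟩
        refine (QuotientGroup.eq_one_iff _).1 ?_
        show ρ (m * m) = 1
        rw [map_mul]
        have hz2 : ρ z * ρ z = 1 := by
          have h1 : ρ z = ρ (x : X) * ρ y * (ρ (x : X))⁻¹ * (ρ (y : X))⁻¹ := by
            rw [hz]; simp only [commutatorElement_def, Subgroup.coe_mul, Subgroup.coe_inv, map_mul, map_inv]
          have hxz := hΦc z hzΦ x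
          have hxx := hΦc _ (hsqΦ x) y
          rw [map_mul] at hxx
          calc ρ z * ρ z = ρ z * (ρ (x : X) * (ρ (x : X))⁻¹) * ρ z := by group
            _ = (ρ (x : X) * ρ z) * (ρ (x : X))⁻¹ * ρ z := by rw [← hxz]; group
            _ = (ρ (x : X) * ρ x) * ρ y * (ρ (x : X) * ρ x)⁻¹ * (ρ (y : X))⁻¹ := by rw [h1]; group
            _ = _ := by rw [hxx]; group
        have hLsq : ∀ l ∈ L, ρ l * ρ l = 1 := fun l hl => by
          rw [← map_mul]; exact (QuotientGroup.eq_one_iff _).2 (mem_low_sq Q L hl)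
        rcases hsplit m hm with h | h
        · exact hLsq m h
        · have hh := hLc _ h ⟨z, frat_le hzΦ⟩
          rw [show m = z * (z⁻¹ * m) from (mul_inv_cancel_left z m).symm, map_mul,
            (show Commute (ρ (z⁻¹ * m)) (ρ z) from hh).mul_mul_mul_comm, hz2, hLsq _ h, one_mul]
    exact hMne (le_antisymm hML hle)
  have hπinj : Function.Injective π := (MonoidHom.ker_eq_bot_iff π).1 (by rw [hπ, QuotientGroup.ker_mk', hL1])
  have hz1 : z ≠ 1 := fun h => hx₁ (by rw [← hπz, h, map_one])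
  have hcard : Nat.card (frattini Q) = 2 := by
    have hset : (Φ : Set X) = {1, z} := by
      ext m
      simp only [SetLike.mem_coe, Set.mem_insert_iff, Set.mem_singleton_iff]
      refine ⟨fun hm => ?_, ?_⟩
      · rcases hΦmap m hm with h | h
        · exact Or.inl (hπinj (h.trans (map_one π).symm))
        · exact Or.inr (hπinj (h.trans hπz.symm))
      · rintro (rfl | rfl)
        exacts [one_mem _, hzΦ]
    rw [Nat.card_congr ((frattini Q).equivMapOfInjective _ Q.subtype_injective).toEquiv,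
      show Nat.card (map Q.subtype (frattini Q)) = Nat.card (Φ : Set X) from rfl, Nat.card_coe_set_eq, hset,
      Set.ncard_pair (Ne.symm hz1)]
  refine ⟨hcard, by rw [← hidx, hcard], ?_, ?_⟩
  · have hle : frattini Q ≤ center Q := fun m hm => mem_center_iff.2 fun c => Subtype.ext
      (hπinj (by rw [Subgroup.coe_mul, Subgroup.coe_mul, map_mul, map_mul]; exact (hcen _ ⟨m, hm, rfl⟩ c).symm))
    refine le_antisymm (fun c hc => ?_) hle
    rcases hirr ((center Q).map D.p) (by
      rintro a - ⟨c, hc, rfl⟩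
      refine ⟨⟨D.lift a * c * (D.lift a)⁻¹, ‹(Cfsg.pCore 2 X).Normal›.conj_mem c c.2 _⟩, ?_, D.conj a c⟩
      refine mem_center_iff.2 fun d => Subtype.ext ?_
      have h := congrArg Subtype.val (mem_center_iff.1 hc
        ⟨(D.lift a)⁻¹ * d * D.lift a, by
          have := ‹(Cfsg.pCore 2 X).Normal›.conj_mem d d.2 (D.lift a)⁻¹; rwa [inv_inv] at this⟩)
      simp only [Subgroup.coe_mul] at h ⊢
      calc (d : X) * (D.lift a * c * (D.lift a)⁻¹) = D.lift a * ((D.lift a)⁻¹ * d * D.lift a * c) * (D.lift a)⁻¹ := by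
            group
        _ = _ := by rw [h]; group) with h | h
    · exact D.ker ▸ MonoidHom.mem_ker.2 (mem_bot.1 (h ▸ mem_map_of_mem D.p hc))
    · exfalso
      have htop : center Q = ⊤ := frattini_nongenerating (by rw [← D.ker, ← comap_map_eq, h, comap_top])
      apply hz1
      rw [hz, show (⁅x, y⁆ : Q) = 1 from commutatorElement_eq_one_iff_mul_comm.2
        (mem_center_iff.1 (htop ▸ mem_top y) x)]
      rfl
  · have h := five_dvd_fibre D qV hinv 1
    rw [Nat.card_eq_fintype_card, Fintype.card_subtype]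
    convert h using 2
    ext v
    simp only [Finset.mem_filter, Finset.mem_erase, Finset.mem_univ, true_and, and_true, ne_eq]
    refine and_congr_right fun _ => ⟨fun h => ?_, fun h x hx => ?_⟩
    · obtain ⟨x, rfl⟩ := D.surj v
      rw [hqV]
      have := congrArg (fun a : Q => π (a : X)) (h x rfl)
      simpa [hsq] using this
    · rw [← hx, hqV] at h
      exact Subtype.ext (hπinj (h.trans (map_one π).symm))

end CfsgLib.SectRankFour
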