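import Cfsg.Agent.SectRankFour.Transvection

/-!
The alternating group of degree five acting on small elementary abelian 2-groups.
-/

set_option autoImplicit false
set_option linter.unusedSectionVars false
set_option linter.style.haveILetI false

namespace CfsgLib.SectRankFour

open Equiv Subgroup

/-- The alternating group of degree five. -/
abbrev A5 : Type := alternatingGroup (Fin 5)

def a5a : A5 := ⟨swap 0 1 * swap 2 3, Perm.mem_alternatingGroup.2 (by decide)⟩
def a5b : A5 := ⟨swap 1 2 * swap 3 4, Perm.mem_alternatingGroup.2 (by decide)⟩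
def a5z : A5 := ⟨swap 0 1 * swap 1 2, Perm.mem_alternatingGroup.2 (by decide)⟩

theorem a5_facts : a5a * a5a = 1 ∧ a5b * a5b = 1 ∧ a5a ≠ 1 ∧ a5z ≠ 1 ∧ a5z ^ 3 = 1 ∧
    (a5a * a5b) ^ 5 = 1 ∧ a5a * a5b ≠ 1 ∧ (∃ c : A5, c * a5a * c⁻¹ = a5b) := by decide +kernel

theorem a5_ker_eq {H : Type*} [Group H] (f : A5 →* H) {g : A5} (hg : g ≠ 1) (h : f g = 1) :
    ∀ x, f x = 1 := by
  haveI : IsSimpleGroup A5 := alternatingGroup.isSimpleGroup (by simp)
  intro x
  rcases IsSimpleGroup.eq_bot_or_eq_top_of_normal f.ker inferInstance with hb | ht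
  · exact absurd (mem_bot.1 (hb ▸ MonoidHom.mem_ker.2 h)) hg
  · exact MonoidHom.mem_ker.1 (ht ▸ mem_top x)

variable {W : Type*} [CommGroup W] [Finite W]

/-- If a double transposition moves at most half, the action is trivial. -/
theorem a5_trivial (h2 : ∀ v : W, v * v = 1) (f : A5 →* MulAut W)
    (h : Nat.card W ≤ 2 * Nat.card (delta (f a5a)).ker) : ∀ x, f x = 1 := by
  haveI : Fact (Nat.Prime 5) := ⟨by norm_num⟩
  obtain ⟨-, -, -, -, -, h5, hne, c, hc⟩ := a5_facts
  refine a5_ker_eq f hne ?_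
  by_contra hne'
  have hb : Nat.card W ≤ 2 * Nat.card (delta (f a5b)).ker := by
    rw [← hc, map_mul, map_mul, map_inv, card_ker_conj h2]; exact h
  obtain ⟨i, j, hi, hj, hij⟩ := exists_card_ker h2 hne'
  have hind : ∀ g : A5, Nat.card W ≤ 2 * Nat.card (delta (f g)).ker → (delta (f g)).ker.index ≤ 2 := fun g hg =>
    Nat.le_of_mul_le_mul_left (by rw [card_mul_index, mul_comm]; exact hg) Nat.card_pos
  have hle : (delta (f a5a)).ker ⊓ (delta (f a5b)).ker ≤ (delta (f (a5a * a5b))).ker := fun v hv => by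
    rw [mem_ker_delta h2, map_mul, MulAut.mul_apply, (mem_ker_delta h2 _ v).1 hv.2, (mem_ker_delta h2 _ v).1 hv.1]
  have h4 : Nat.card W ≤ Nat.card (delta (f (a5a * a5b))).ker * 4 :=
    calc Nat.card W = Nat.card ↥((delta (f a5a)).ker ⊓ (delta (f a5b)).ker) * _ := (card_mul_index _).symm
      _ ≤ _ := Nat.mul_le_mul (card_le_of_le hle)
          (index_inf_le.trans (Nat.mul_le_mul (hind _ h) (hind _ hb)))
  have hm := modEq_ker h2 (a := f (a5a * a5b)) (p := 5) (by rw [← map_pow, h5, map_one])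
  rw [hi, hj] at hm h4
  obtain ⟨d, rfl⟩ := Nat.exists_eq_add_of_lt hij
  rw [show i + d + 1 = i + (d + 1) from rfl, pow_add] at hm h4
  have hd : 2 ^ (d + 1) ≤ 4 := Nat.le_of_mul_le_mul_left h4 (pow_pos (by norm_num) i)
  have hcop : Nat.Coprime (2 ^ i) 5 := Nat.Coprime.pow_left i (by norm_num)
  have hmod : 2 ^ (d + 1) ≡ 1 [MOD 5] :=
    Nat.ModEq.cancel_left_of_coprime (Nat.Coprime.symm hcop) (by rw [mul_one]; exact hm)
  have hd2 : d < 2 := by
    by_contra h
    have : (2 : ℕ) ^ 3 ≤ 2 ^ (d + 1) := Nat.pow_le_pow_right (by norm_num) (by omega)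
    omega
  interval_cases d <;> exact absurd hmod (by decide)

/-- Facts about a faithful action on at most sixteen elements. -/
theorem a5_module (h2 : ∀ v : W, v * v = 1) (hW : Nat.card W ≤ 16) (f : A5 →* MulAut W)
    (hf : Function.Injective f) :
    Nat.card W = 16 ∧ Nat.card (delta (f a5a)).ker = 4 ∧
      Nat.card (delta (f (a5a * a5b))).ker = 1 ∧ Nat.card (delta (f a5z)).ker ≤ 4 ∧
      ∀ U : Subgroup W, (∀ x, ∀ u ∈ U, f x u ∈ U) → U = ⊥ ∨ U = ⊤ := by
  classical
  haveI : Fact (Nat.Prime 5) := ⟨by norm_num⟩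
  haveI : Fact (Nat.Prime 3) := ⟨Nat.prime_three⟩
  obtain ⟨haa, -, ha1, hz1, hz3, h5, hne, -⟩ := a5_facts
  have hinj : ∀ g : A5, g ≠ 1 → f g ≠ 1 := fun g hg h => hg (hf (h.trans (map_one f).symm))
  obtain ⟨i, j, hi, hj, hij⟩ := exists_card_ker h2 (hinj _ hne)
  have hj4 : j ≤ 4 := (Nat.pow_le_pow_iff_right (by norm_num : 1 < 2)).1 (hj ▸ hW)
  have hm := modEq_ker h2 (a := f (a5a * a5b)) (p := 5) (by rw [← map_pow, h5, map_one])
  rw [hi, hj] at hm
  have key : ∀ j ∈ List.range 5, ∀ i ∈ List.range j, 2 ^ j % 5 = 2 ^ i % 5 → j = 4 ∧ i = 0 := by decide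
  obtain ⟨rfl, rfl⟩ := key j (List.mem_range.2 (by omega)) i (List.mem_range.2 hij) hm
  have hW16 : Nat.card W = 16 := hj
  refine ⟨hW16, ?_, hi, ?_, ?_⟩
  · obtain ⟨p, q, hp, hq, hpq⟩ := exists_card_ker h2 (hinj _ ha1)
    obtain rfl : q = 4 := Nat.pow_right_injective le_rfl (show 2 ^ q = 2 ^ 4 by omega)
    have hle : (delta (f a5a)).range ≤ (delta (f a5a)).ker := fun v hv =>
      (mem_ker_delta h2 _ _).2 (range_fixed h2 (by rw [← map_mul, haa, map_one]) hv)
    have hsq : Nat.card W ≤ Nat.card (delta (f a5a)).ker * Nat.card (delta (f a5a)).ker := by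
      rw [← card_ker_range (f a5a)]; exact Nat.mul_le_mul_left _ (card_le_of_le hle)
    rw [hW16, hp] at hsq
    have hnh : p ≠ 3 := by
      rintro rfl
      exact hinj _ ha1 (a5_trivial h2 f (by rw [hW16, hp]; norm_num) a5a)
    rw [hp]
    interval_cases p <;> simp_all
  · obtain ⟨p, q, hp, hq, hpq⟩ := exists_card_ker h2 (hinj _ hz1)
    obtain rfl : q = 4 := Nat.pow_right_injective le_rfl (show 2 ^ q = 2 ^ 4 by omega)
    have hm3 := modEq_ker h2 (a := f a5z) (p := 3) (by rw [← map_pow, hz3, map_one])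
    rw [hW16, hp] at hm3
    rw [hp]
    have key : ∀ p ∈ List.range 4, 16 % 3 = 2 ^ p % 3 → 2 ^ p ≤ 4 := by decide
    exact key p (List.mem_range.2 hpq) hm3
  · intro U hU
    haveI := Fintype.ofFinite W
    set g := f (a5a * a5b) with hg
    let e : Function.End U := fun v => ⟨g v, hU _ v v.2⟩
    have hek : ∀ k : ℕ, ∀ v : U, ((e ^ k) v : W) = (g ^ k) v := by
      intro k
      induction k with
      | zero => intro v; rfl
      | succ k ih =>
        intro v
        rw [pow_succ', pow_succ', MulAut.mul_apply, ← ih]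
        rfl
    have he : e ^ 5 ^ 1 = 1 := by
      funext v
      refine Subtype.ext ?_
      rw [pow_one, hek, hg, ← map_pow, h5, map_one]
      rfl
    have hm' := Equiv.Perm.card_fixedPoints_modEq (f := e) he
    haveI : Subsingleton (delta g).ker := (Nat.card_eq_one_iff_unique.1 hi).1
    haveI : Subsingleton (Function.fixedPoints e) := ⟨fun v w => by
      have h := Subsingleton.elim (⟨v.1.1, (mem_ker_delta h2 g _).2 (congrArg Subtype.val v.2)⟩ : (delta g).ker)
        ⟨w.1.1, (mem_ker_delta h2 g _).2 (congrArg Subtype.val w.2)⟩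
      exact Subtype.ext (Subtype.ext (congrArg (fun u : (delta g).ker => (u : W)) h))⟩
    have hfp : Nat.card (Function.fixedPoints e) = 1 :=
      Nat.card_eq_one_iff_unique.2 ⟨inferInstance, ⟨⟨⟨1, U.one_mem⟩, Subtype.ext (map_one g)⟩⟩⟩
    rw [← Nat.card_eq_fintype_card, ← Nat.card_eq_fintype_card, hfp] at hm'
    obtain ⟨k, hk, hUk⟩ := (Nat.dvd_prime_pow Nat.prime_two).1
      (show Nat.card U ∣ 2 ^ 4 from (show Nat.card W = 2 ^ 4 from hj) ▸ card_subgroup_dvd_card U)
    rw [hUk] at hm'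
    have key : ∀ k ∈ List.range 5, 2 ^ k % 5 = 1 % 5 → k = 0 ∨ k = 4 := by decide
    rcases key k (List.mem_range.2 (by omega)) hm' with rfl | rfl
    · exact Or.inl (eq_bot_of_card_eq _ hUk)
    · exact Or.inr (eq_top_of_card_eq _ (hUk.trans hj.symm))

end CfsgLib.SectRankFour
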