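import Cfsg.Agent.SectRankFour.Transvection
import Cfsg.Agent.Solvable.SectionalFour

/-!
An involutory action with a two-dimensional centre on `Q/W` moves at most one dimension of a central layer `W`.
-/

set_option autoImplicit false
set_option linter.unusedSectionVars false
set_option linter.style.haveILetI false

namespace CfsgLib.SectRankFour

open Subgroup
open scoped commutatorElement

variable {Y : Type*} [Group Y] [Finite Y] {V : Type*} [CommGroup V] [Finite V]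

theorem layer_normalised (hr : Cfsg.SectionalPRankLE 2 4 Y) (Qb Wb : Subgroup Y) [Qb.Normal]
    (hle : Wb ≤ Qb) (hWsq : ∀ w ∈ Wb, w * w = 1) (hWc : ∀ w ∈ Wb, ∀ q ∈ Qb, q * w = w * q)
    (p : Qb →* V) (hps : Function.Surjective p) (hpk : p.ker = Wb.subgroupOf Qb)
    (τ : MulAut V) (t : Y) (htQ : t ∉ Qb) (htW : t * t ∈ Wb)
    (htn : ∀ w ∈ Wb, t * w * t⁻¹ ∈ Wb)
    (hconj : ∀ v : Qb, p ⟨t * v * t⁻¹, ‹Qb.Normal›.conj_mem v v.2 t⟩ = τ (p v))
    (h2 : ∀ v : V, v * v = 1) (hR : Nat.card (delta τ).range = 4) (hker : (delta τ).range ≤ (delta τ).ker) :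
    Nat.card Wb ≤ 2 * Nat.card ↥(Wb ⊓ centralizer ({t} : Set Y)) := by
  classical
  set N : Subgroup Y := Wb ⊓ centralizer ({t} : Set Y) with hN
  have hNfix : ∀ w, w ∈ N ↔ w ∈ Wb ∧ t * w * t⁻¹ = w := fun w => by
    rw [hN, mem_inf, mem_centralizer_singleton_iff, mul_inv_eq_iff_eq_mul]
    exact ⟨fun h => ⟨h.1, h.2.symm⟩, fun h => ⟨h.1, h.2.symm⟩⟩
  have hWab : ∀ a ∈ Wb, ∀ b ∈ Wb, a * b = b * a := fun a ha b hb => hWc b hb a (hle ha)
  have hW1 : ∀ v : Qb, (v : Y) ∈ Wb ↔ p v = 1 := fun v => by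
    rw [← MonoidHom.mem_ker, hpk, mem_subgroupOf]
  have hinv : ∀ w ∈ Wb, w⁻¹ = w := fun w hw => inv_eq_of_mul_eq_one_right (hWsq w hw)
  set c : Qb → Qb := fun v => ⟨t * v * t⁻¹, ‹Qb.Normal›.conj_mem v v.2 t⟩ * v⁻¹ with hc
  have hpc : ∀ v, p (c v) = delta τ (p v) := fun v => by
    rw [hc, map_mul, map_inv, hconj, delta_apply, inv_eq_self' h2]
  have hcfix : ∀ v, (t * (c v : Y) * t⁻¹) * (c v : Y)⁻¹ ∈ Wb := fun v => by
    have h := (hW1 (⟨t * (c v : Y) * t⁻¹, ‹Qb.Normal›.conj_mem _ (c v).2 t⟩ * (c v)⁻¹)).2 (by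
      rw [map_mul, map_inv, hconj, hpc, (mem_ker_delta h2 τ _).1 (hker ⟨p v, rfl⟩), mul_inv_cancel])
    exact h
  have hcanti : ∀ v, t * (c v : Y) * t⁻¹ = (c v : Y)⁻¹ := fun v => by
    show t * (t * v * t⁻¹ * (v : Y)⁻¹) * t⁻¹ = (t * v * t⁻¹ * (v : Y)⁻¹)⁻¹
    have h1 : (t * t) * (v : Y) * (t * t)⁻¹ = v := by
      rw [← hWc _ htW v v.2, mul_inv_cancel_right]
    calc t * (t * v * t⁻¹ * (v : Y)⁻¹) * t⁻¹ = (t * t * v * (t * t)⁻¹) * (t * (v : Y)⁻¹ * t⁻¹) := by group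
      _ = _ := by rw [h1]; group
  -- squares and products of the commutators are fixed
  have hsqW : ∀ v : Qb, (v : Y) * v ∈ Wb := fun v => (hW1 (v * v)).2 (by rw [map_mul, h2])
  have hcsq : ∀ v, (c v : Y) * c v ∈ N := fun v => by
    refine (hNfix _).2 ⟨hsqW (c v), ?_⟩
    calc t * ((c v : Y) * c v) * t⁻¹ = (t * (c v : Y) * t⁻¹) * (t * (c v : Y) * t⁻¹) := by group
      _ = ((c v : Y) * c v)⁻¹ := by rw [hcanti, mul_inv_rev]
      _ = _ := hinv _ (hsqW _)
  have hccomm : ∀ v u, (c v : Y) * c u * (c v : Y)⁻¹ * (c u : Y)⁻¹ ∈ N := fun v u => by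
    have hmem : ∀ a b : Qb, (a : Y) * b * (a : Y)⁻¹ * (b : Y)⁻¹ ∈ Wb := fun a b => (hW1 (a * b * a⁻¹ * b⁻¹)).2 (by
      rw [map_mul, map_mul, map_mul, map_inv, map_inv, mul_comm (p a), mul_assoc (p b), mul_inv_cancel, mul_one,
        mul_inv_cancel])
    refine (hNfix _).2 ⟨hmem _ _, ?_⟩
    set a : Y := (c v : Y)
    set b : Y := (c u : Y)
    have h1 : a * b * a⁻¹ * b⁻¹ = a⁻¹ * b⁻¹ * a * b := by
      have hw : a * b * a⁻¹ * b⁻¹ ∈ Wb := hmem (c v) (c u)
      refine Eq.symm ?_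
      calc a⁻¹ * b⁻¹ * a * b = (b * a)⁻¹ * ((a * b * a⁻¹ * b⁻¹) * (b * a)) := by group
        _ = (b * a)⁻¹ * ((b * a) * (a * b * a⁻¹ * b⁻¹)) := by
            rw [hWc _ hw (b * a) (mul_mem (c u).2 (c v).2)]
        _ = _ := inv_mul_cancel_left _ _
    calc t * (a * b * a⁻¹ * b⁻¹) * t⁻¹ = (t * a * t⁻¹) * (t * b * t⁻¹) * (t * a * t⁻¹)⁻¹ * (t * b * t⁻¹)⁻¹ := by
          group
      _ = _ := by rw [hcanti, hcanti, inv_inv, inv_inv, ← h1]
  set S : Set Y := (Wb : Set Y) ∪ Set.range (fun v => (c v : Y)) ∪ {t} with hS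
  set K : Subgroup Y := closure S with hK
  have hWK : Wb ≤ K := fun w hw => subset_closure (Or.inl (Or.inl hw))
  have hcK : ∀ v, (c v : Y) ∈ K := fun v => subset_closure (Or.inl (Or.inr ⟨v, rfl⟩))
  have htK : t ∈ K := subset_closure (Or.inr rfl)
  have hnorm : K ≤ normalizer (N : Set Y) := by
    refine le_trans ((closure_le _).2 ?_) (centralizer_le_normalizer (N : Set Y))
    intro s hs
    refine mem_centralizer_iff.2 fun x hx => ?_
    rcases hs with (hs | ⟨v, rfl⟩) | hs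
    · exact hWab x hx.1 s hs
    · exact (hWc x hx.1 _ (c v).2).symm
    · rw [Set.mem_singleton_iff] at hs; subst hs
      exact (mul_inv_eq_iff_eq_mul.1 ((hNfix x).1 hx).2).symm
  have hNK : N ≤ K := inf_le_left.trans hWK
  haveI : (N.subgroupOf K).Normal := (normal_subgroupOf_iff_le_normalizer hNK).2 hnorm
  let q := QuotientGroup.mk' (N.subgroupOf K)
  have hq : ∀ x : K, q x = 1 ↔ (x : Y) ∈ N := fun x => (QuotientGroup.eq_one_iff x).trans mem_subgroupOf
  have hgen : ∀ x (hx : x ∈ S), q ⟨x, subset_closure hx⟩ * q ⟨x, subset_closure hx⟩ = 1 := by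
    intro x hx
    rw [← map_mul, hq]
    show x * x ∈ N
    rcases hx with (hx | ⟨v, rfl⟩) | hx
    · rw [hWsq x hx]; exact one_mem _
    · exact hcsq v
    · rw [Set.mem_singleton_iff] at hx; subst hx
      exact (hNfix _).2 ⟨htW, by group⟩
  have hpairs : ∀ x (hx : x ∈ S) y (hy : y ∈ S), Commute (q ⟨x, subset_closure hx⟩) (q ⟨y, subset_closure hy⟩) := by
    have hWt : ∀ w (hw : w ∈ Wb), Commute (q ⟨t, htK⟩) (q ⟨w, hWK hw⟩) := fun w hw => by
      refine commutatorElement_eq_one_iff_mul_comm.1 ?_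
      rw [← map_commutatorElement, hq]
      show t * w * t⁻¹ * w⁻¹ ∈ N
      refine (hNfix _).2 ⟨mul_mem (htn w hw) (inv_mem hw), ?_⟩
      have h1 : (t * t) * w * (t * t)⁻¹ = w := by rw [hWab _ htW w hw, mul_inv_cancel_right]
      calc t * (t * w * t⁻¹ * w⁻¹) * t⁻¹ = (t * t * w * (t * t)⁻¹) * (t * w * t⁻¹)⁻¹ := by group
        _ = w * (t * w * t⁻¹) := by rw [h1, hinv _ (htn w hw)]
        _ = _ := by rw [hWab w hw _ (htn w hw), hinv w hw]
    have hct : ∀ v, Commute (q ⟨t, htK⟩) (q ⟨c v, hcK v⟩) := fun v => by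
      refine commutatorElement_eq_one_iff_mul_comm.1 ?_
      rw [← map_commutatorElement, hq]
      show t * (c v : Y) * t⁻¹ * (c v : Y)⁻¹ ∈ N
      rw [hcanti, ← mul_inv_rev, hinv _ (hsqW _)]
      exact hcsq v
    have hWc' : ∀ v w (hw : w ∈ Wb), Commute (q ⟨c v, hcK v⟩) (q ⟨w, hWK hw⟩) := fun v w hw => by
      rw [Commute, SemiconjBy, ← map_mul, ← map_mul]
      exact congrArg q (Subtype.ext (hWc w hw _ (c v).2))
    intro x hx y hy
    have hx' := hx; have hy' := hy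
    rcases hx' with (hxw | ⟨v, rfl⟩) | hxt <;> rcases hy' with (hyw | ⟨u, rfl⟩) | hyt
    · rw [Commute, SemiconjBy, ← map_mul, ← map_mul]
      exact congrArg q (Subtype.ext (hWab x hxw y hyw))
    · exact (hWc' u x hxw).symm
    · rw [Set.mem_singleton_iff] at hyt; subst hyt; exact (hWt x hxw).symm
    · exact hWc' v y hyw
    · refine commutatorElement_eq_one_iff_mul_comm.1 ?_
      rw [← map_commutatorElement, hq]
      exact hccomm v u
    · rw [Set.mem_singleton_iff] at hyt; subst hyt; exact (hct v).symm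
    · rw [Set.mem_singleton_iff] at hxt; subst hxt; exact hWt y hyw
    · rw [Set.mem_singleton_iff] at hxt; subst hxt; exact hct u
    · rw [Set.mem_singleton_iff] at hxt hyt; subst hxt hyt; exact Commute.refl _
  have hqcomm : ∀ x y : K, Commute (q x) (q y) := by
    rintro ⟨x, hx⟩ ⟨y, hy⟩
    induction hx, hy using Subgroup.closure_induction₂ with
    | mem x y hx hy => exact hpairs x hx y hy
    | one_left x hx => exact (show q ⟨1, one_mem K⟩ = 1 from map_one q) ▸ Commute.one_left _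
    | one_right x hx => exact (show q ⟨1, one_mem K⟩ = 1 from map_one q) ▸ Commute.one_right _
    | mul_left x y z hx hy hz h1 h2 =>
      rw [show (⟨x * y, mul_mem hx hy⟩ : K) = ⟨x, hx⟩ * ⟨y, hy⟩ from rfl, map_mul]
      exact h1.mul_left h2
    | mul_right y z x hy hz hx h1 h2 =>
      rw [show (⟨y * z, mul_mem hy hz⟩ : K) = ⟨y, hy⟩ * ⟨z, hz⟩ from rfl, map_mul]
      exact h1.mul_right h2
    | inv_left x y hx hy h =>
      rw [show (⟨x⁻¹, inv_mem hx⟩ : K) = (⟨x, hx⟩ : K)⁻¹ from rfl, map_inv]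
      exact h.inv_left
    | inv_right x y hx hy h =>
      rw [show (⟨y⁻¹, inv_mem hy⟩ : K) = (⟨y, hy⟩ : K)⁻¹ from rfl, map_inv]
      exact h.inv_right
  have hqsq : ∀ x (hx : x ∈ K), q ⟨x, hx⟩ * q ⟨x, hx⟩ = 1 := by
    intro x hx
    induction hx using Subgroup.closure_induction with
    | mem x hx => exact hgen x hx
    | one => rw [show (⟨1, one_mem K⟩ : K) = 1 from rfl, map_one, mul_one]
    | mul x y hx hy h1 h2 =>
      rw [show (⟨x * y, mul_mem hx hy⟩ : K) = ⟨x, hx⟩ * ⟨y, hy⟩ from rfl, map_mul,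
        (hqcomm ⟨y, hy⟩ ⟨x, hx⟩).mul_mul_mul_comm, h1, h2, mul_one]
    | inv x hx h =>
      rw [show (⟨x⁻¹, inv_mem hx⟩ : K) = (⟨x, hx⟩ : K)⁻¹ from rfl, map_inv, ← mul_inv_rev, h, inv_one]
  have hb := CfsgLib.SectionalFour.section_bound hr hNK hnorm
    (fun x hx y hy => by
      have h : q (⁅(⟨x, hx⟩ : K), (⟨y, hy⟩ : K)⁆) = 1 := by
        rw [map_commutatorElement, commutatorElement_eq_one_iff_mul_comm]; exact hqcomm _ _
      exact (hq _).1 h)
    (fun x hx => (hq ⟨_, mul_mem hx hx⟩).1 (by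
      rw [show (⟨x * x, mul_mem hx hx⟩ : K) = ⟨x, hx⟩ * ⟨x, hx⟩ from rfl, map_mul]; exact hqsq x hx))
  -- the preimage of the range
  set P : Subgroup Y := ((delta τ).range.comap p).map Qb.subtype with hP
  have hPK : P ≤ K := by
    rintro - ⟨x, ⟨a, ha⟩, rfl⟩
    obtain ⟨v, rfl⟩ := hps a
    have hw : ((x * (c v)⁻¹ : Qb) : Y) ∈ Wb := (hW1 _).2 (by rw [map_mul, map_inv, hpc, ha, mul_inv_cancel])
    have := mul_mem (hWK hw) (hcK v)
    rw [Subgroup.coe_mul, Subgroup.coe_inv, inv_mul_cancel_right] at this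
    exact this
  have hPcard : Nat.card P = 4 * Nat.card Wb := by
    rw [hP, ← Nat.card_congr (((delta τ).range.comap p).equivMapOfInjective _ Qb.subtype_injective).toEquiv]
    let g : ((delta τ).range.comap p) →* V := p.comp ((delta τ).range.comap p).subtype
    have h := g.ker.card_mul_index
    rw [index_ker, show g.range = (delta τ).range by
      rw [MonoidHom.range_comp, range_subtype, map_comap_eq_self_of_surjective hps], hR,
      show Nat.card g.ker = Nat.card Wb from ?_] at h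
    · rw [← h, mul_comm]
    · exact Nat.card_congr
        { toFun := fun x => ⟨x.1.1.1, (hW1 _).2 x.2⟩
          invFun := fun w => ⟨⟨⟨w.1, hle w.2⟩, mem_comap.2 ((hW1 ⟨w.1, hle w.2⟩).1 w.2 ▸ one_mem _)⟩,
            (hW1 ⟨w.1, hle w.2⟩).1 w.2⟩
          left_inv := fun x => rfl
          right_inv := fun w => rfl }
  have h2P : 2 * Nat.card P ≤ Nat.card K := by
    obtain ⟨k, hk⟩ := card_dvd_of_le hPK
    have hk1 : 2 ≤ k := by
      by_contra hlt
      have hk0 : k ≠ 0 := fun h => by rw [h, mul_zero] at hk; exact Nat.card_pos.ne' hk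
      rw [show k = 1 by omega, mul_one] at hk
      exact htQ ((map_subtype_le _ : P ≤ Qb) (show t ∈ P by rw [eq_of_le_of_card_ge hPK hk.le]; exact htK))
    rw [hk, mul_comm]
    exact Nat.mul_le_mul_left _ hk1
  rw [hPcard] at h2P
  omega

theorem layer (hr : Cfsg.SectionalPRankLE 2 4 Y) (Qb Wb : Subgroup Y) [Qb.Normal] [Wb.Normal]
    (hle : Wb ≤ Qb) (hWsq : ∀ w ∈ Wb, w * w = 1) (hWc : ∀ w ∈ Wb, ∀ q ∈ Qb, q * w = w * q)
    (p : Qb →* V) (hps : Function.Surjective p) (hpk : p.ker = Wb.subgroupOf Qb)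
    (τ : MulAut V) (t : Y) (htQ : t ∉ Qb) (ht : t * t ∈ Qb)
    (hconj : ∀ v : Qb, p ⟨t * v * t⁻¹, ‹Qb.Normal›.conj_mem v v.2 t⟩ = τ (p v))
    (h2 : ∀ v : V, v * v = 1) (hV : Nat.card V = 16) (hk : Nat.card (delta τ).ker = 4) :
    Nat.card Wb ≤ 2 * Nat.card ↥(Wb ⊓ centralizer ({t} : Set Y)) := by
  have hW1 : ∀ v : Qb, (v : Y) ∈ Wb ↔ p v = 1 := fun v => by
    rw [← MonoidHom.mem_ker, hpk, mem_subgroupOf]
  have hcV : ∀ (a : Qb) (v : Qb), p (a * v * a⁻¹) = p v := fun a v => by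
    rw [map_mul, map_mul, map_inv, mul_comm (p a), mul_inv_cancel_right]
  have hττ : τ * τ = 1 := by
    refine MulEquiv.ext fun a => ?_
    obtain ⟨v, rfl⟩ := hps a
    rw [MulAut.mul_apply, ← hconj, ← hconj, MulAut.one_apply]
    rw [← hcV ⟨t * t, ht⟩ v]
    congr 1
    refine Subtype.ext ?_
    show t * (t * v * t⁻¹) * t⁻¹ = t * t * v * (t * t)⁻¹
    group
  have hker : (delta τ).range ≤ (delta τ).ker := fun v hv => (mem_ker_delta h2 τ v).2 (range_fixed h2 hττ hv)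
  have hR : Nat.card (delta τ).range = 4 := by
    have h := card_ker_range τ
    rw [hk, hV] at h; omega
  have heq : (delta τ).range = (delta τ).ker := eq_of_le_of_card_ge hker (by rw [hR, hk])
  -- adjust the lift
  obtain ⟨a, ha⟩ : p ⟨t * t, ht⟩ ∈ (delta τ).range := by
    rw [heq, mem_ker_delta h2, ← hconj]
    congr 1
    refine Subtype.ext ?_
    show t * (t * t) * t⁻¹ = t * t
    group
  obtain ⟨u, rfl⟩ := hps a
  have htu : t * (u : Y) * (t * u) ∈ Wb := by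
    have h := (hW1 (⟨t * u * t⁻¹, ‹Qb.Normal›.conj_mem u u.2 t⟩ * ⟨t * t, ht⟩ * u)).2 (by
      rw [map_mul, map_mul, hconj, ← ha, delta_apply, mul_assoc (τ (p u)) (τ (p u) * p u) (p u),
        mul_assoc (τ (p u)) (p u) (p u), h2, mul_one, h2])
    have e : t * (u : Y) * (t * u) = t * u * t⁻¹ * (t * t) * u := by group
    rw [e]; exact h
  have hcent : Wb ⊓ centralizer ({t} : Set Y) = Wb ⊓ centralizer ({t * (u : Y)} : Set Y) := by
    ext w
    simp only [mem_inf, mem_centralizer_singleton_iff]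
    refine and_congr_right fun hw => ?_
    have h := hWc w hw u u.2
    rw [mul_assoc t, h, ← mul_assoc, ← mul_assoc]
    exact mul_left_inj _ |>.symm
  rw [hcent]
  refine layer_normalised hr Qb Wb hle hWsq hWc p hps hpk τ (t * u) (fun h => htQ ?_) htu
    (fun w hw => ‹Wb.Normal›.conj_mem w hw _) (fun v => ?_) h2 hR hker
  · exact ((mul_mem_cancel_right u.2).1 h)
  · rw [← hcV u v, ← hconj]
    congr 1
    refine Subtype.ext ?_
    show t * (u : Y) * v * (t * u)⁻¹ = t * ((u : Y) * v * (u : Y)⁻¹) * t⁻¹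
    group

end CfsgLib.SectRankFour
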