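import Cfsg.Agent.SectRankFour.Module
import Cfsg.Agent.SectRankFour.Alt5
import Cfsg.Agent.SectRankFour.Layer

/-!
The alternating group of degree five over `O₂(X)` in sectional rank four: `O₂(X)` is elementary abelian or
its Frattini subgroup is central of order two.
-/

set_option autoImplicit false
set_option linter.unusedSectionVars false
set_option linter.style.haveILetI false

namespace CfsgLib.SectRankFour

open Subgroup
open scoped commutatorElement

universe u

variable {X : Type u} [Group X] [Finite X]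

/-- Sectional rank passes to subgroups. -/
theorem sectional_subgroup {p k : ℕ} (hr : Cfsg.SectionalPRankLE p k X) (S : Subgroup X) :
    Cfsg.SectionalPRankLE p k S := by
  intro H N _ A hA hAp
  let e : H ≃* H.map S.subtype := H.equivMapOfInjective _ S.subtype_injective
  haveI : (N.map e.toMonoidHom).Normal := Subgroup.Normal.map inferInstance _ e.surjective
  let e' : H ⧸ N ≃* (H.map S.subtype) ⧸ N.map e.toMonoidHom := QuotientGroup.congr N _ e rfl
  have h := hr (H.map S.subtype) (N.map e.toMonoidHom) (A.map e'.toMonoidHom) ⟨⟨by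
    rintro ⟨_, x, hx, rfl⟩ ⟨_, y, hy, rfl⟩
    refine Subtype.ext ?_
    show e' x * e' y = e' y * e' x
    rw [← map_mul, ← map_mul]
    exact congrArg _ (congrArg Subtype.val (hA.is_comm.comm ⟨x, hx⟩ ⟨y, hy⟩))⟩⟩ (by
    rintro _ ⟨x, hx, rfl⟩
    rw [← map_pow, hAp x hx, map_one])
  exact (Nat.card_congr (A.equivMapOfInjective e'.toMonoidHom e'.injective).toEquiv).trans_le h

/-- The product of a commutator and the squares below a subgroup. -/
def low (Q M : Subgroup X) : Subgroup X := ⁅M, Q⁆ ⊔ normalClosure ((fun m => m * m) '' (M : Set X))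

theorem low_normal (Q M : Subgroup X) [Q.Normal] [M.Normal] : (low Q M).Normal := by
  unfold low; infer_instance

theorem low_le (Q M : Subgroup X) [M.Normal] : low Q M ≤ M :=
  sup_le (commutator_le_left M Q) (normalClosure_le_normal (by rintro - ⟨m, hm, rfl⟩; exact mul_mem hm hm))

theorem mem_low_comm (Q M : Subgroup X) {m q : X} (hm : m ∈ M) (hq : q ∈ Q) :
    m * q * m⁻¹ * q⁻¹ ∈ low Q M :=
  mem_sup_left (commutator_mem_commutator hm hq)

theorem mem_low_sq (Q M : Subgroup X) {m : X} (hm : m ∈ M) : m * m ∈ low Q M :=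
  mem_sup_right (subset_normalClosure ⟨m, hm, rfl⟩)

theorem low_ne (Q M : Subgroup X) [Q.Normal] [M.Normal] (hQ : IsPGroup 2 Q) (hle : M ≤ Q) (hM : M ≠ ⊥) :
    low Q M ≠ M := by
  classical
  haveI : Fact (Nat.Prime 2) := ⟨Nat.prime_two⟩
  intro hlow
  set C : Subgroup X := ⁅M, Q⁆
  set π := QuotientGroup.mk' C
  have hMC : M ≤ C := by
    set M' := M.map π
    have hab : ∀ a ∈ M', ∀ b ∈ M', a * b = b * a := by
      rintro - ⟨a, ha, rfl⟩ - ⟨b, hb, rfl⟩
      rw [← commutatorElement_eq_one_iff_mul_comm, ← map_commutatorElement]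
      exact (QuotientGroup.eq_one_iff _).2 (commutator_mem_commutator ha (hle hb))
    letI : CommGroup M' :=
      { (inferInstance : Group M') with mul_comm := fun a b => Subtype.ext (hab a a.2 b b.2) }
    let S : Subgroup (X ⧸ C) := (powMonoidHom 2 : M' →* M').range.map M'.subtype
    haveI : M'.Normal := Subgroup.Normal.map inferInstance π (QuotientGroup.mk'_surjective C)
    haveI : S.Normal := ⟨by
      rintro - ⟨-, ⟨a, rfl⟩, rfl⟩ g
      refine ⟨_, ⟨⟨g * a * g⁻¹, ‹M'.Normal›.conj_mem a a.2 g⟩, rfl⟩, ?_⟩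
      show (g * (a : X ⧸ C) * g⁻¹) ^ 2 = g * ((a : X ⧸ C) ^ 2) * g⁻¹
      rw [pow_two, pow_two]; group⟩
    have hsub : low Q M ≤ S.comap π := by
      refine sup_le (fun x hx => ?_) (normalClosure_le_normal ?_)
      · rw [mem_comap, show π x = 1 from (QuotientGroup.eq_one_iff x).2 hx]; exact one_mem _
      · rintro - ⟨m, hm, rfl⟩
        refine ⟨_, ⟨⟨π m, mem_map_of_mem π hm⟩, rfl⟩, ?_⟩
        show (π m) ^ 2 = π (m * m)
        rw [map_mul, pow_two]
    have hsurj : Function.Surjective (powMonoidHom 2 : M' →* M') := by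
      rintro ⟨-, m, hm, rfl⟩
      obtain ⟨b, hb, hbe⟩ := hsub (hlow.ge hm)
      obtain ⟨c, rfl⟩ := hb
      exact ⟨c, Subtype.ext hbe⟩
    have hinj := Finite.injective_iff_surjective.2 hsurj
    have hpg : IsPGroup 2 M' := (hQ.to_le hle).map π
    intro m hm
    apply (QuotientGroup.eq_one_iff m).1
    obtain ⟨k, hk⟩ := hpg ⟨π m, mem_map_of_mem π hm⟩
    have key : ∀ k, ∀ a : M', a ^ 2 ^ k = 1 → a = 1 := by
      intro k
      induction k with
      | zero => intro a ha; rwa [pow_zero, pow_one] at ha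
      | succ k ih =>
        intro a ha
        refine hinj ((ih (a ^ 2) ?_).trans (one_pow 2).symm)
        rw [← pow_mul, ← pow_succ']; exact ha
    exact congrArg Subtype.val (key k _ hk)
  haveI := hQ.isNilpotent
  obtain ⟨n, hn⟩ := (Subgroup.isNilpotent_iff_lowerCentralSeries Q).1 inferInstance
  have hind : ∀ i, M ≤ Q.lowerCentralSeries i := by
    intro i
    induction i with
    | zero => exact hle
    | succ i ih => rw [Subgroup.lowerCentralSeries_succ]; exact hMC.trans (commutator_mono ih le_rfl)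
  exact hM (le_bot_iff.1 (hn ▸ hind n))

variable (hc : Cfsg.IsPConstrained 2 X) (hO : Cfsg.oddCore X = ⊥) (hX : Cfsg.SectionalPRankLE 2 4 X)
variable [(Cfsg.pCore 2 X).Normal] (f : A5 →* X ⧸ Cfsg.pCore 2 X) (hf : Function.Injective f)

/-- The data of the module `V = Q/Φ(Q)`. -/
structure Mod {X : Type u} [Group X] [(Cfsg.pCore 2 X).Normal] (f : A5 →* X ⧸ Cfsg.pCore 2 X) where
  V : Type u
  [grp : CommGroup V]
  [fin : Finite V]
  p : Cfsg.pCore 2 X →* V
  α : A5 →* MulAut V
  lift : A5 → X
  surj : Function.Surjective p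
  ker : p.ker = frattini (Cfsg.pCore 2 X)
  two : ∀ v : V, v * v = 1
  le : Nat.card V ≤ 16
  inj : Function.Injective α
  lift_spec : ∀ a, QuotientGroup.mk' (Cfsg.pCore 2 X) (lift a) = f a
  conj : ∀ a (v : Cfsg.pCore 2 X),
    p ⟨lift a * v * (lift a)⁻¹, ‹(Cfsg.pCore 2 X).Normal›.conj_mem v v.2 (lift a)⟩ = α a (p v)

attribute [instance] Mod.grp Mod.fin

include hc hO hX hf in
theorem exists_mod : Nonempty (Mod f) := by
  classical
  haveI : (frat X).Normal := frat_normal
  obtain ⟨hN, hab, hsq, hcard, hC⟩ := exists_module hc hO (sectional_subgroup hX _)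
  haveI := hN
  set Q := Cfsg.pCore 2 X
  set V := Q.map (QuotientGroup.mk' (frat X))
  letI : CommGroup V :=
    { (inferInstance : Group V) with mul_comm := fun a b => Subtype.ext (hab a a.2 b b.2) }
  let act : X →* MulAut V := (MulAut.conjNormal : X ⧸ frat X →* MulAut V).comp (QuotientGroup.mk' (frat X))
  have hker : act.ker = Q := by
    ext x
    constructor
    · intro hx
      have hmem : QuotientGroup.mk' (frat X) x ∈ centralizer (V : Set (X ⧸ frat X)) := by
        rw [mem_centralizer_iff]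
        intro v hv
        have h := congrArg Subtype.val (DFunLike.congr_fun (MonoidHom.mem_ker.1 hx) (⟨v, hv⟩ : V))
        rw [MonoidHom.comp_apply, MulAut.conjNormal_apply] at h
        exact (mul_inv_eq_iff_eq_mul.1 h).symm
      obtain ⟨y, hy, hyx⟩ := hC hmem
      obtain ⟨z, hz, hzx⟩ := (QuotientGroup.mk'_eq_mk' (frat X)).1 hyx
      rw [← hzx]; exact mul_mem hy (frat_le hz)
    · intro hx
      rw [MonoidHom.mem_ker]
      refine MulEquiv.ext fun v => Subtype.ext ?_
      rw [MonoidHom.comp_apply, MulAut.conjNormal_apply, MulAut.one_apply,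
        hab _ (mem_map_of_mem _ hx) v v.2, mul_inv_cancel_right]
  have hl : ∀ a : A5, ∃ g : X, QuotientGroup.mk' Q g = f a := fun a => QuotientGroup.mk'_surjective Q _
  choose g hg using hl
  refine ⟨{ V := V, p := (QuotientGroup.mk' (frat X)).subgroupMap Q
            α := (QuotientGroup.lift Q act hker.ge).comp f
            lift := g
            surj := MonoidHom.subgroupMap_surjective _ Q
            ker := ?_
            two := fun v => Subtype.ext (hsq v v.2)
            le := hcard
            inj := ?_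
            lift_spec := hg
            conj := fun a v => ?_ }⟩
  · ext v
    rw [MonoidHom.mem_ker]
    constructor
    · intro h
      have h' : (v : X) ∈ frat X := (QuotientGroup.eq_one_iff _).1 (congrArg Subtype.val h)
      obtain ⟨w, hw, hwv⟩ := h'
      rwa [← Q.subtype_injective hwv]
    · intro h
      exact Subtype.ext ((QuotientGroup.eq_one_iff _).2 ⟨v, h, rfl⟩)
  · show Function.Injective ((QuotientGroup.lift Q act hker.ge) ∘ f)
    refine Function.Injective.comp ?_ hf
    rw [← MonoidHom.ker_eq_bot_iff, QuotientGroup.ker_lift, hker, QuotientGroup.map_mk'_self]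
  · rw [MonoidHom.comp_apply, ← hg a]
    refine Subtype.ext ?_
    show QuotientGroup.mk' (frat X) (g a * v * (g a)⁻¹) = _
    rw [map_mul, map_mul, map_inv]
    exact (MulAut.conjNormal_apply (QuotientGroup.mk' (frat X) (g a))
      ((QuotientGroup.mk' (frat X)).subgroupMap Q v)).symm

variable {f}

include hX hf in
/-- A central elementary layer at the top of `Φ(Q)` is fixed. -/
theorem layer_fixed (D : Mod f) (K : Subgroup X) [K.Normal] [(frat X).Normal] (hK : K ≤ frat X)
    (hcen : ∀ m ∈ frat X, ∀ q ∈ Cfsg.pCore 2 X, m * q * m⁻¹ * q⁻¹ ∈ K)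
    (hsqK : ∀ m ∈ frat X, m * m ∈ K) :
    ∀ a : A5, ∀ x : X, QuotientGroup.mk' (Cfsg.pCore 2 X) x = f a →
      ∀ m ∈ frat X, x * m * x⁻¹ * m⁻¹ ∈ K := by
  classical
  set Q := Cfsg.pCore 2 X
  set π := QuotientGroup.mk' K
  set Qb := Q.map π with hQb
  set Wb := (frat X).map π with hWb
  haveI : Qb.Normal := Subgroup.Normal.map inferInstance π (QuotientGroup.mk'_surjective K)
  haveI : Wb.Normal := Subgroup.Normal.map inferInstance π (QuotientGroup.mk'_surjective K)
  have hWc : ∀ w ∈ Wb, ∀ q ∈ Qb, q * w = w * q := by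
    rintro - ⟨m, hm, rfl⟩ - ⟨q, hq, rfl⟩
    refine (commutatorElement_eq_one_iff_mul_comm.1 ?_).symm
    rw [← map_commutatorElement]
    exact (QuotientGroup.eq_one_iff _).2 (hcen m hm q hq)
  have hWsq : ∀ w ∈ Wb, w * w = 1 := by
    rintro - ⟨m, hm, rfl⟩
    rw [← map_mul]; exact (QuotientGroup.eq_one_iff _).2 (hsqK m hm)
  have hle : Wb ≤ Qb := map_mono frat_le
  -- the projection onto the module
  have hker : (π.subgroupMap Q).ker ≤ D.p.ker := by
    intro v hv
    have h : (v : X) ∈ K := (QuotientGroup.eq_one_iff _).1 (congrArg Subtype.val hv)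
    obtain ⟨w, hw, hwv⟩ := hK h
    rw [D.ker, ← Q.subtype_injective hwv]
    exact hw
  let e := QuotientGroup.quotientKerEquivOfSurjective (π.subgroupMap Q) (MonoidHom.subgroupMap_surjective π Q)
  let p' : Qb →* D.V := (QuotientGroup.lift _ D.p hker).comp e.symm.toMonoidHom
  have hp' : ∀ v : Q, p' (π.subgroupMap Q v) = D.p v := fun v => by
    show QuotientGroup.lift _ D.p hker (e.symm (π.subgroupMap Q v)) = _
    rw [show e.symm (π.subgroupMap Q v) = QuotientGroup.mk v from e.symm_apply_eq.2 rfl]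
    exact QuotientGroup.lift_mk' _ _ v
  have hps : Function.Surjective p' := fun a => by
    obtain ⟨v, rfl⟩ := D.surj a
    exact ⟨_, hp' v⟩
  have hpk : p'.ker = Wb.subgroupOf Qb := by
    ext w
    obtain ⟨v, rfl⟩ := MonoidHom.subgroupMap_surjective π Q w
    rw [MonoidHom.mem_ker, hp', mem_subgroupOf, ← MonoidHom.mem_ker, D.ker]
    constructor
    · intro h; exact ⟨v, ⟨v, h, rfl⟩, rfl⟩
    · rintro ⟨m, hm, hme⟩
      obtain ⟨z, hz, hzx⟩ := (QuotientGroup.mk'_eq_mk' K).1 hme
      have : (v : X) ∈ frat X := by rw [← hzx]; exact mul_mem hm (hK hz)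
      obtain ⟨u, hu, huv⟩ := this
      rwa [← Q.subtype_injective huv]
  obtain ⟨hV16, hker4, -, -, -⟩ := a5_module D.two D.le D.α D.inj
  -- the action on the layer
  letI : CommGroup Wb :=
    { (inferInstance : Group Wb) with
      mul_comm := fun a b => Subtype.ext (hWc b b.2 a (hle a.2)) }
  let act : X →* MulAut Wb := (MulAut.conjNormal : X ⧸ K →* MulAut Wb).comp π
  have hQact : Q ≤ act.ker := fun q hq => MonoidHom.mem_ker.2 (MulEquiv.ext fun w => Subtype.ext (by
    rw [MonoidHom.comp_apply, MulAut.conjNormal_apply, MulAut.one_apply,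
      hWc w w.2 _ (mem_map_of_mem π hq), mul_inv_cancel_right]))
  let β : A5 →* MulAut Wb := (QuotientGroup.lift Q act hQact).comp f
  have hβ : ∀ a x, QuotientGroup.mk' Q x = f a → β a = act x := fun a x hx => by
    show QuotientGroup.lift Q act hQact (f a) = _
    rw [← hx]; rfl
  have ha1 := a5_facts.2.2.1
  set t : X := D.lift a5a with ht
  have htQ : π t ∉ Qb := by
    rintro ⟨q, hq, hqt⟩
    obtain ⟨z, hz, hzx⟩ := (QuotientGroup.mk'_eq_mk' K).1 hqt
    have h1 : t ∈ Q := hzx ▸ mul_mem hq (frat_le (hK hz))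
    apply ha1
    apply hf
    rw [← D.lift_spec, map_one]
    exact (QuotientGroup.eq_one_iff _).2 h1
  have htt : π t * π t ∈ Qb := by
    rw [← map_mul]
    refine mem_map_of_mem π ((QuotientGroup.eq_one_iff _).1 ?_)
    show QuotientGroup.mk' Q (t * t) = 1
    rw [map_mul, D.lift_spec, ← map_mul, a5_facts.1, map_one]
  have hlayer := layer (CfsgLib.TwoMetacyclic.sectional_quotient hX K) Qb Wb hle hWsq hWc p' hps hpk
    (D.α a5a) (π t) htQ htt (fun w => by
      obtain ⟨v, rfl⟩ := MonoidHom.subgroupMap_surjective π Q w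
      rw [hp', ← D.conj, ← hp']
      exact congrArg p' (Subtype.ext (by simp [ht])))
    D.two hV16 hker4
  have htriv := a5_trivial (W := Wb) (fun w => Subtype.ext (hWsq w w.2)) β (by
    refine hlayer.trans (Nat.mul_le_mul_left 2 (le_of_eq ?_))
    refine Nat.card_congr
      { toFun := fun w => ⟨⟨w.1, w.2.1⟩, ?_⟩
        invFun := fun w => ⟨w.1.1, w.1.2, ?_⟩
        left_inv := fun w => rfl
        right_inv := fun w => rfl }
    · rw [mem_ker_delta (fun u => Subtype.ext (hWsq u u.2)), hβ a5a t (D.lift_spec a5a)]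
      refine Subtype.ext ?_
      rw [MonoidHom.comp_apply, MulAut.conjNormal_apply]
      have h := mem_centralizer_singleton_iff.1 w.2.2
      exact mul_inv_eq_iff_eq_mul.2 h.symm
    · have h := (mem_ker_delta (fun u => Subtype.ext (hWsq u u.2)) _ _).1 w.2
      replace h := (DFunLike.congr_fun (hβ a5a t (D.lift_spec a5a)) w.1).symm.trans h
      have h' := congrArg Subtype.val h
      rw [MonoidHom.comp_apply, MulAut.conjNormal_apply] at h'
      exact mem_centralizer_singleton_iff.2 (mul_inv_eq_iff_eq_mul.1 h').symm)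
  intro a x hx m hm
  have h := congrArg Subtype.val (DFunLike.congr_fun (htriv a) (⟨π m, mem_map_of_mem π hm⟩ : Wb))
  rw [hβ a x hx, MonoidHom.comp_apply, MulAut.conjNormal_apply, MulAut.one_apply] at h
  apply (QuotientGroup.eq_one_iff _).1
  show π (x * m * x⁻¹ * m⁻¹) = 1
  rw [map_mul, map_mul, map_mul, map_inv, map_inv]
  exact mul_inv_eq_one.2 h

end CfsgLib.SectRankFour
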