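import Mathlib

/-!
The symmetric group of degree six acting faithfully on an elementary abelian group of order at most 16:
three commuting transvections with a common centre plane.
-/

set_option autoImplicit false
set_option linter.unusedSectionVars false
set_option linter.style.haveILetI false

namespace CfsgLib.SectRankFour

open Equiv Subgroup
open scoped Pointwise

variable {W : Type*} [CommGroup W]

/-- `v ↦ a(v)·v` -/
def delta (a : MulAut W) : W →* W := a.toMonoidHom * MonoidHom.id W

@[simp] theorem delta_apply (a : MulAut W) (v : W) : delta a v = a v * v := rfl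

theorem inv_eq_self' (h2 : ∀ v : W, v * v = 1) (v : W) : v⁻¹ = v :=
  inv_eq_of_mul_eq_one_right (h2 v)

theorem mem_ker_delta (h2 : ∀ v : W, v * v = 1) (a : MulAut W) (v : W) :
    v ∈ (delta a).ker ↔ a v = v := by
  rw [MonoidHom.mem_ker, delta_apply, mul_eq_one_iff_eq_inv, inv_eq_self' h2]

/-- `a` fixes exactly half of `W`. -/
def Half (a : MulAut W) : Prop := 2 * Nat.card (delta a).ker = Nat.card W

theorem range_fixed (h2 : ∀ v : W, v * v = 1) {a : MulAut W} (ha : a * a = 1) {v : W}
    (hv : v ∈ (delta a).range) : a v = v := by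
  obtain ⟨u, rfl⟩ := hv
  have h1 : a (a u) = u := DFunLike.congr_fun ha u
  rw [delta_apply, map_mul, h1, mul_comm]

theorem card_ker_range [Finite W] (a : MulAut W) :
    Nat.card (delta a).ker * Nat.card (delta a).range = Nat.card W := by
  rw [← index_ker, card_mul_index]

theorem range_map_of_commute {a b : MulAut W} (hc : b * a = a * b) {v : W} (hv : v ∈ (delta a).range) :
    b v ∈ (delta a).range := by
  obtain ⟨u, rfl⟩ := hv
  refine ⟨b u, ?_⟩
  have h := DFunLike.congr_fun hc u
  simp only [MulAut.mul_apply] at h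
  rw [delta_apply, delta_apply, map_mul, h]

theorem range_mul_le (h2 : ∀ v : W, v * v = 1) {a b : MulAut W} (hfix : ∀ v ∈ (delta b).range, a v = v) :
    (delta (a * b)).range ≤ (delta a).range ⊔ (delta b).range := by
  rintro - ⟨v, rfl⟩
  have h : delta (a * b) v = delta a v * delta b v := by
    have hb := hfix _ ⟨v, rfl⟩
    rw [delta_apply, map_mul] at hb
    rw [delta_apply, delta_apply, delta_apply, MulAut.mul_apply,
      show a (b v) = b v * v * (a v)⁻¹ from eq_mul_inv_of_mul_eq hb, inv_eq_self' h2]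
    rw [mul_comm (b v * v) (a v), mul_assoc (a v) v (b v * v)]
    rw [mul_assoc (a v) (b v * v) v, mul_comm (b v * v) v]
  rw [h]
  exact mul_mem_sup ⟨v, rfl⟩ ⟨v, rfl⟩

theorem card_ker_conj [Finite W] (h2 : ∀ v : W, v * v = 1) (a b : MulAut W) :
    Nat.card (delta (b * a * b⁻¹)).ker = Nat.card (delta a).ker := by
  refine (Nat.card_congr (Equiv.subtypeEquiv b.toEquiv fun v => ?_)).symm
  rw [mem_ker_delta h2, mem_ker_delta h2, MulEquiv.toEquiv_eq_coe, MulEquiv.coe_toEquiv,
    MulAut.mul_apply, MulAut.mul_apply, MulAut.inv_def, MulEquiv.symm_apply_apply]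
  exact b.injective.eq_iff.symm

theorem half_conj [Finite W] (h2 : ∀ v : W, v * v = 1) (a b : MulAut W) :
    Half (b * a * b⁻¹) ↔ Half a := by
  rw [Half, Half, card_ker_conj h2]

theorem exists_card [Finite W] (h2 : ∀ v : W, v * v = 1) : ∃ j : ℕ, Nat.card W = 2 ^ j := by
  haveI : Fact (Nat.Prime 2) := ⟨Nat.prime_two⟩
  exact IsPGroup.iff_card.1 fun v => ⟨1, by rw [pow_one, pow_two, h2]⟩

/-- A nontrivial automorphism fixes at most half. -/
theorem exists_card_ker [Finite W] (h2 : ∀ v : W, v * v = 1) {a : MulAut W} (ha : a ≠ 1) :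
    ∃ i j : ℕ, Nat.card (delta a).ker = 2 ^ i ∧ Nat.card W = 2 ^ j ∧ i < j := by
  obtain ⟨j, hj⟩ := exists_card h2
  obtain ⟨i, hij, hi⟩ := (Nat.dvd_prime_pow Nat.prime_two).1 (hj ▸ card_subgroup_dvd_card (delta a).ker)
  refine ⟨i, j, hi, hj, hij.lt_of_ne ?_⟩
  rintro rfl
  apply ha
  have htop : (delta a).ker = ⊤ := eq_top_of_card_eq _ (hi.trans hj.symm)
  exact MulEquiv.ext fun v => (mem_ker_delta h2 a v).1 (htop ▸ mem_top v)

theorem modEq_ker [Finite W] (h2 : ∀ v : W, v * v = 1) {p : ℕ} [Fact p.Prime] {a : MulAut W} (ha : a ^ p = 1) :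
    Nat.card W ≡ Nat.card (delta a).ker [MOD p] := by
  classical
  haveI := Fintype.ofFinite W
  let f : Function.End W := MulAction.toEndHom a
  have h := Equiv.Perm.card_fixedPoints_modEq (f := f) (p := p) (n := 1)
    (by rw [pow_one, ← map_pow, ha, map_one])
  rw [Nat.card_eq_fintype_card, Nat.card_eq_fintype_card]
  refine h.trans (congrArg (· % p) (Fintype.card_congr (Equiv.subtypeEquivRight fun v => ?_)))
  rw [mem_ker_delta h2]
  rfl

/-- The product of two transvections does not have order five. -/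
theorem false_of_five [Finite W] (h2 : ∀ v : W, v * v = 1) (hW : Nat.card W ≤ 16) {a b : MulAut W}
    (ha : Half a) (hb : Half b) (h5 : (a * b) ^ 5 = 1) (hne : a * b ≠ 1) : False := by
  haveI : Fact (Nat.Prime 5) := ⟨by norm_num⟩
  obtain ⟨i, j, hi, hj, hij⟩ := exists_card_ker h2 hne
  have hle : (delta a).ker ⊓ (delta b).ker ≤ (delta (a * b)).ker := fun v hv => by
    rw [mem_ker_delta h2, MulAut.mul_apply, (mem_ker_delta h2 b v).1 hv.2, (mem_ker_delta h2 a v).1 hv.1]
  have hidx : ((delta a).ker ⊓ (delta b).ker).index ≤ 4 := by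
    refine index_inf_le.trans ?_
    have hind : ∀ c : MulAut W, Half c → (delta c).ker.index = 2 := fun c hc =>
      Nat.eq_of_mul_eq_mul_left Nat.card_pos (by
        rw [card_mul_index, ← hc]; exact mul_comm _ _)
    rw [hind a ha, hind b hb]
  have h4 : Nat.card W ≤ 4 * Nat.card (delta (a * b)).ker := by
    calc Nat.card W = Nat.card ((delta a).ker ⊓ (delta b).ker : Subgroup W) * _ := (card_mul_index _).symm
      _ ≤ Nat.card (delta (a * b)).ker * 4 := Nat.mul_le_mul (card_le_of_le hle) hidx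
      _ = _ := mul_comm _ _
  have hm := modEq_ker h2 h5
  rw [hi, hj] at hm h4
  have hj4 : j ≤ 4 := (Nat.pow_le_pow_iff_right (by norm_num : 1 < 2)).1 (hj ▸ hW)
  have key : ∀ j ∈ List.range 5, ∀ i ∈ List.range j, 2 ^ j ≤ 4 * 2 ^ i → 2 ^ j % 5 ≠ 2 ^ i % 5 := by decide
  exact key j (List.mem_range.2 (by omega)) i (List.mem_range.2 hij) h4 hm

/-- The elementary group of order eight fixing three pairs. -/
def pairGroup : Subgroup (Perm (Fin 6)) where
  carrier := {σ | ∀ i, (σ i).val / 2 = i.val / 2}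
  mul_mem' := fun {a b} ha hb i => (ha (b i)).trans (hb i)
  one_mem' := fun _ => rfl
  inv_mem' := fun {a} ha i => by
    have h := ha (a⁻¹ i)
    rw [Perm.inv_def, Equiv.apply_symm_apply] at h
    rw [Perm.inv_def]
    exact h.symm

instance : DecidablePred (fun σ => σ ∈ pairGroup) := fun σ =>
  inferInstanceAs (Decidable (∀ i, (σ i).val / 2 = i.val / 2))

theorem pairGroup_facts : Fintype.card pairGroup = 8 ∧ ∀ σ : pairGroup, σ * σ = 1 := by decide +kernel

def rTr : Perm (Fin 6) := swap 0 1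
def rDb : Perm (Fin 6) := swap 0 1 * swap 2 3
def rTp : Perm (Fin 6) := swap 0 1 * swap 2 3 * swap 4 5

/-- In a faithful action some element of the pair group is a transvection. -/
theorem exists_half [Finite W] (h2 : ∀ v : W, v * v = 1) (hW : Nat.card W ≤ 16)
    (f : Perm (Fin 6) →* MulAut W) (hf : Function.Injective f) :
    ∃ σ ∈ pairGroup, σ ≠ 1 ∧ Half (f σ) := by
  classical
  by_contra! hno
  haveI := Fintype.ofFinite W
  have h4 : ∀ σ : pairGroup, σ ≠ 1 → Nat.card (delta (f σ)).ker = 4 ∧ Nat.card W = 16 := by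
    intro σ hσ
    have hσ1 : (σ : Perm (Fin 6)) ≠ 1 := fun h => hσ (Subtype.ext h)
    have hne : f σ ≠ 1 := fun h => hσ1 (hf (h.trans (map_one f).symm))
    obtain ⟨i, j, hi, hj, hij⟩ := exists_card_ker h2 hne
    have hinv : f σ * f σ = 1 := by
      rw [← map_mul, show (σ : Perm (Fin 6)) * σ = 1 from congrArg Subtype.val (pairGroup_facts.2 σ), map_one]
    have hle : (delta (f σ)).range ≤ (delta (f σ)).ker := fun v hv => (mem_ker_delta h2 _ _).2 (range_fixed h2 hinv hv)
    have hsq : Nat.card W ≤ Nat.card (delta (f σ)).ker * Nat.card (delta (f σ)).ker := by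
      rw [← card_ker_range (f σ)]
      exact Nat.mul_le_mul_left _ (card_le_of_le hle)
    have hh : ¬ 2 * 2 ^ i = 2 ^ j := fun h => hno σ σ.2 hσ1 (show 2 * _ = _ by rw [hi, hj, h])
    rw [hi, hj] at hsq
    have hj4 : j ≤ 4 := (Nat.pow_le_pow_iff_right (by norm_num : 1 < 2)).1 (hj ▸ hW)
    have key : ∀ j ∈ List.range 5, ∀ i ∈ List.range j, ¬ 2 * 2 ^ i = 2 ^ j → 2 ^ j ≤ 2 ^ i * 2 ^ i →
        i = 2 ∧ j = 4 := by decide
    obtain ⟨rfl, rfl⟩ := key j (List.mem_range.2 (by omega)) i (List.mem_range.2 hij) hh hsq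
    exact ⟨hi, hj⟩
  letI : MulAction pairGroup W := MulAction.compHom W (f.comp pairGroup.subtype)
  have hb := MulAction.sum_card_fixedBy_eq_card_orbits_mul_card_group pairGroup W
  have hfix : ∀ σ : pairGroup, Fintype.card (MulAction.fixedBy W σ) = Nat.card (delta (f σ)).ker := by
    intro σ
    rw [← Nat.card_eq_fintype_card]
    exact Nat.card_congr (Equiv.subtypeEquivRight fun v => (mem_ker_delta h2 (f σ) v).symm)
  rw [← Finset.add_sum_erase _ _ (Finset.mem_univ (1 : pairGroup)), hfix,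
    Finset.sum_congr rfl (fun σ hσ => (hfix σ).trans (h4 σ (Finset.ne_of_mem_erase hσ)).1),
    Finset.sum_const, Finset.card_erase_of_mem (Finset.mem_univ _), Finset.card_univ, pairGroup_facts.1] at hb
  have hker1 : (delta (f ((1 : pairGroup) : Perm (Fin 6)))).ker = ⊤ :=
    eq_top_iff.2 fun v _ => (mem_ker_delta h2 _ v).2 (by rw [OneMemClass.coe_one, map_one]; rfl)
  obtain ⟨σ, hσ⟩ := Fintype.exists_ne_of_one_lt_card (by rw [pairGroup_facts.1]; norm_num) (1 : pairGroup)
  rw [hker1, card_top, (h4 σ hσ).2, smul_eq_mul] at hb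
  omega

theorem class_reps : ∀ σ : pairGroup, σ ≠ 1 →
    ∃ c ∈ [1, swap 0 2 * swap 1 3, swap 0 4 * swap 1 5, swap 2 4 * swap 3 5],
      c * σ.1 * c⁻¹ ∈ [rTr, rDb, rTp] := by decide +kernel

/-- Three commuting involutions, each with an element of order three in its centralizer. -/
structure Frame (τ γ : Fin 3 → Perm (Fin 6)) (r : Perm (Fin 6)) : Prop where
  sq : ∀ i, τ i * τ i = 1
  comm : ∀ i j, τ i * τ j = τ j * τ i
  cube : ∀ i, γ i ^ 3 = 1
  ne_one : ∀ i, γ i ≠ 1
  centre : ∀ i, γ i * τ i = τ i * γ i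
  conj_rep : ∀ i, ∃ c, c * r * c⁻¹ = τ i
  conj_prod : ∀ i j, i ≠ j → ∃ c, c * (τ i * τ j) * c⁻¹ = rDb
  word : Function.Injective fun e : Fin 3 → Bool =>
    (if e 0 then τ 0 else 1) * (if e 1 then τ 1 else 1) * (if e 2 then τ 2 else 1)

def tauA : Fin 3 → Perm (Fin 6) := ![swap 0 1, swap 2 3, swap 4 5]
def gamA : Fin 3 → Perm (Fin 6) := ![swap 2 3 * swap 3 4, swap 0 1 * swap 1 4, swap 0 1 * swap 1 2]
def tauB : Fin 3 → Perm (Fin 6) :=
  ![swap 0 1 * swap 2 3 * swap 4 5, swap 0 1 * swap 2 4 * swap 3 5, swap 0 1 * swap 2 5 * swap 3 4]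
def gamB : Fin 3 → Perm (Fin 6) :=
  ![swap 0 2 * swap 2 4 * (swap 1 3 * swap 3 5), swap 0 2 * swap 2 3 * (swap 1 4 * swap 4 5),
    swap 0 2 * swap 2 3 * (swap 1 5 * swap 5 4)]

theorem frameA : Frame tauA gamA rTr :=
  ⟨by decide +kernel, by decide +kernel, by decide +kernel, by decide +kernel, by decide +kernel,
    by decide +kernel, by decide +kernel, by unfold Function.Injective; decide +kernel⟩

theorem frameB : Frame tauB gamB rTp :=
  ⟨by decide +kernel, by decide +kernel, by decide +kernel, by decide +kernel, by decide +kernel,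
    by decide +kernel, by decide +kernel, by unfold Function.Injective; decide +kernel⟩

theorem five_facts : (∃ c : Perm (Fin 6), c * rDb * c⁻¹ = swap 1 2 * swap 3 4) ∧
    (rDb * (swap 1 2 * swap 3 4)) ^ 5 = 1 ∧ rDb * (swap 1 2 * swap 3 4) ≠ 1 := by decide +kernel

/-- Three transvections with a common plane containing all their centres. -/
theorem exists_frame [Finite W] (h2 : ∀ v : W, v * v = 1) (hW : Nat.card W ≤ 16)
    (f : Perm (Fin 6) →* MulAut W) (hf : Function.Injective f) :
    ∃ (τ γ : Fin 3 → Perm (Fin 6)) (r : Perm (Fin 6)) (L : Subgroup W), Frame τ γ r ∧ Nat.card L = 4 ∧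
      Nat.card W = 16 ∧ (∀ i v, f (τ i) v * v ∈ L) ∧ (∀ i, ∀ v ∈ L, f (τ i) v = v) ∧
      (∀ i j, i ≠ j → ∀ v, f (τ i * τ j) v = v → v ∈ L) ∧
      (∀ i s c, f (τ i) s = s → f (γ i) s = f (τ i) c * c * s → s ∈ L) := by
  classical
  have hdb : ¬ Half (f rDb) := by
    intro h
    obtain ⟨⟨c, hc⟩, h5, hne⟩ := five_facts
    refine false_of_five h2 hW h (b := f (swap 1 2 * swap 3 4)) ?_ ?_ ?_
    · rw [← hc, map_mul, map_mul, map_inv]; exact (half_conj h2 _ _).2 h
    · rw [← map_mul, ← map_pow, h5, map_one]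
    · rw [← map_mul]; exact fun h' => hne (hf (h'.trans (map_one f).symm))
  obtain ⟨τ, γ, r, hF, hr⟩ : ∃ τ γ r, Frame τ γ r ∧ Half (f r) := by
    obtain ⟨σ, hσ, hσ1, hσh⟩ := exists_half h2 hW f hf
    obtain ⟨c, -, hc⟩ := class_reps ⟨σ, hσ⟩ fun h => hσ1 (congrArg Subtype.val h)
    have h' : Half (f (c * σ * c⁻¹)) := by rw [map_mul, map_mul, map_inv]; exact (half_conj h2 _ _).2 hσh
    simp only [List.mem_cons, List.not_mem_nil, or_false] at hc
    rcases hc with h | h | h <;> rw [h] at h'
    · exact ⟨_, _, _, frameA, h'⟩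
    · exact absurd h' hdb
    · exact ⟨_, _, _, frameB, h'⟩
  have hhalf : ∀ i, Half (f (τ i)) := fun i => by
    obtain ⟨c, hc⟩ := hF.conj_rep i
    rw [← hc, map_mul, map_mul, map_inv]; exact (half_conj h2 _ _).2 hr
  have hprod : ∀ i j, i ≠ j → ¬ Half (f (τ i * τ j)) := fun i j hij h => by
    obtain ⟨c, hc⟩ := hF.conj_prod i j hij
    exact hdb (by rw [← hc, map_mul, map_mul, map_inv]; exact (half_conj h2 _ _).2 h)
  let a : Fin 3 → MulAut W := fun i => f (τ i)
  have hsq : ∀ i, a i * a i = 1 := fun i => by rw [← map_mul, hF.sq, map_one]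
  have hcm : ∀ i j, a j * a i = a i * a j := fun i j => by rw [← map_mul, ← map_mul, hF.comm]
  have hR2 : ∀ i, Nat.card (delta (a i)).range = 2 := fun i => by
    have h := card_ker_range (a i)
    have h' : 2 * Nat.card (delta (a i)).ker = Nat.card W := hhalf i
    rw [← h', mul_comm] at h
    exact Nat.eq_of_mul_eq_mul_right Nat.card_pos h
  have hRfix : ∀ i j, ∀ v ∈ (delta (a i)).range, a j v = v := by
    intro i j v hv
    by_cases hv1 : v = 1
    · rw [hv1, map_one]
    have hmem := range_map_of_commute (hcm i j) hv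
    by_contra hne
    have hsub : ({1, v, a j v} : Set W) ⊆ (delta (a i)).range := by
      intro u hu
      simp only [Set.mem_insert_iff, Set.mem_singleton_iff] at hu
      rcases hu with rfl | rfl | rfl
      exacts [one_mem _, hv, hmem]
    have h3 := Set.ncard_le_ncard hsub (Set.toFinite _)
    rw [← Nat.card_coe_set_eq ((delta (a i)).range : Set W), Set.ncard_eq_three.2 ⟨1, v, a j v, Ne.symm hv1,
      fun h => hv1 ((a j).injective (h.symm.trans (map_one (a j)).symm)), Ne.symm hne, rfl⟩] at h3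
    exact absurd (h3.trans (hR2 i).le) (by norm_num)
  have hpair : ∀ i j, i ≠ j → Nat.card W = 16 ∧ Nat.card (delta (a i * a j)).ker = 4 ∧
      (delta (a i)).range ⊔ (delta (a j)).range = (delta (a i * a j)).ker := by
    intro i j hij
    have hne : a i * a j ≠ 1 := by
      rw [← map_mul]
      intro h
      obtain ⟨c, hc⟩ := hF.conj_prod i j hij
      rw [hf (h.trans (map_one f).symm), mul_one, mul_inv_cancel] at hc
      exact absurd hc.symm (by decide +kernel)
    obtain ⟨p, q, hp, hq, hpq⟩ := exists_card_ker h2 hne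
    have hlt : p + 1 ≠ q := fun h => hprod i j hij (show 2 * _ = _ by
      rw [map_mul, hp, hq, ← h, pow_succ, mul_comm])
    set S := (delta (a i)).range ⊔ (delta (a j)).range
    have hle : (delta (a i * a j)).range ≤ S := range_mul_le h2 fun v hv => hRfix j i v hv
    have hker : S ≤ (delta (a i * a j)).ker := sup_le
      (fun v hv => (mem_ker_delta h2 _ v).2 (by rw [MulAut.mul_apply, hRfix i j v hv, hRfix i i v hv]))
      (fun v hv => (mem_ker_delta h2 _ v).2 (by rw [MulAut.mul_apply, hRfix j j v hv, hRfix j i v hv]))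
    have hS4 : Nat.card S ≤ 4 := by
      have h := Subgroup.mul_normal (delta (a i)).range (delta (a j)).range
      have h' : (Set.Finite (((delta (a i)).range : Set W) * ((delta (a j)).range : Set W))) := Set.toFinite _
      calc Nat.card S = Nat.card ↥(((delta (a i)).range : Set W) * ((delta (a j)).range : Set W)) := by
            rw [← h]; rfl
        _ ≤ Nat.card (delta (a i)).range * Nat.card (delta (a j)).range := Set.natCard_mul_le
        _ = 4 := by rw [hR2, hR2]
    have hlt1 : p + 1 < q := by omega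
    have hr4 := (card_le_of_le hle).trans hS4
    have hk := card_ker_range (a i * a j)
    have hSk := card_le_of_le hker
    rw [hp, hq] at hk
    rw [hp] at hSk
    have hrs := card_le_of_le hle
    have hq4 : q ≤ 4 := (Nat.pow_le_pow_iff_right (by norm_num : 1 < 2)).1 (hq ▸ hW)
    have key : ∀ q ∈ List.range 5, ∀ p ∈ List.range q, p + 1 < q → ∀ r ∈ List.range 5, ∀ s ∈ List.range 5,
        2 ^ p * r = 2 ^ q → r ≤ s → s ≤ 2 ^ p → q = 4 ∧ p = 2 ∧ s = 4 := by decide
    obtain ⟨rfl, rfl, hs⟩ := key q (List.mem_range.2 (by omega)) p (List.mem_range.2 hpq) hlt1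
      _ (List.mem_range.2 (Nat.lt_succ_of_le hr4)) _ (List.mem_range.2 (Nat.lt_succ_of_le hS4)) hk hrs hSk
    exact ⟨hq, hp, eq_of_le_of_card_ge hker (by rw [hp, hs]; norm_num)⟩
  obtain ⟨hW16, hL4, hL01⟩ := hpair 0 1 (by decide)
  refine ⟨τ, γ, r, (delta (a 0 * a 1)).ker, hF, hL4, hW16, fun i v => ?_, fun i v hv => ?_,
    fun i j hij v hv => ?_, fun i s c hs hg => ?_⟩
  · exact (mem_ker_delta h2 _ _).2 (by rw [MulAut.mul_apply]; exact
      (congrArg (a 0) (hRfix i 1 _ ⟨v, rfl⟩)).trans (hRfix i 0 _ ⟨v, rfl⟩))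
  · rw [← hL01] at hv
    have hsub : (delta (a 0)).range ⊔ (delta (a 1)).range ≤ (delta (a i)).ker := sup_le
      (fun u hu => (mem_ker_delta h2 _ u).2 (hRfix 0 i u hu)) (fun u hu => (mem_ker_delta h2 _ u).2 (hRfix 1 i u hu))
    exact (mem_ker_delta h2 _ v).1 (hsub hv)
  · obtain ⟨-, hij4, hSij⟩ := hpair i j hij
    have hle : (delta (a i * a j)).ker ≤ (delta (a 0 * a 1)).ker := by
      rw [← hSij]
      exact sup_le (fun u hu => (mem_ker_delta h2 _ u).2 (by rw [MulAut.mul_apply, hRfix i 1 u hu, hRfix i 0 u hu]))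
        (fun u hu => (mem_ker_delta h2 _ u).2 (by rw [MulAut.mul_apply, hRfix j 1 u hu, hRfix j 0 u hu]))
    exact hle ((mem_ker_delta h2 _ v).2 (by rw [← map_mul]; exact hv))
  · have hRL : ∀ v ∈ (delta (a i)).range, v ∈ (delta (a 0 * a 1)).ker := fun v hv =>
      (mem_ker_delta h2 _ v).2 (by rw [MulAut.mul_apply, hRfix i 1 v hv, hRfix i 0 v hv])
    by_contra hsL
    set g := f (γ i) with hgdef
    have hga : g * a i = a i * g := by rw [hgdef, ← map_mul, ← map_mul, hF.centre]
    have hgR : ∀ v ∈ (delta (a i)).range, g v = v := by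
      intro v hv
      by_cases hv1 : v = 1
      · rw [hv1, map_one]
      have hmem := range_map_of_commute hga hv
      by_contra hne
      have hsub : ({1, v, g v} : Set W) ⊆ (delta (a i)).range := by
        intro u hu
        simp only [Set.mem_insert_iff, Set.mem_singleton_iff] at hu
        rcases hu with rfl | rfl | rfl
        exacts [one_mem _, hv, hmem]
      have h3 := Set.ncard_le_ncard hsub (Set.toFinite _)
      rw [← Nat.card_coe_set_eq ((delta (a i)).range : Set W), Set.ncard_eq_three.2 ⟨1, v, g v, Ne.symm hv1,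
        fun h => hv1 (g.injective (h.symm.trans (map_one g).symm)), Ne.symm hne, rfl⟩] at h3
      exact absurd (h3.trans (hR2 i).le) (by norm_num)
    have hu : f (τ i) c * c ∈ (delta (a i)).range := ⟨c, rfl⟩
    have hg3 : g ^ 3 = 1 := by rw [hgdef, ← map_pow, hF.cube, map_one]
    have hgs : g s = s := by
      have h1 : g (g s) = s := by
        rw [hg, map_mul, hgR _ hu, hg, ← mul_assoc, h2, one_mul]
      have h3 := DFunLike.congr_fun hg3 s
      rw [pow_succ', pow_two, MulAut.mul_apply, MulAut.mul_apply, h1] at h3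
      exact h3
    -- count the fixed points on the kernel of the transvection
    haveI : Fact (Nat.Prime 3) := ⟨Nat.prime_three⟩
    haveI := Fintype.ofFinite W
    set K := (delta (a i)).ker with hK
    have hK8 : Nat.card K = 8 := by
      have h : 2 * Nat.card K = Nat.card W := hhalf i
      omega
    have hgK : ∀ v ∈ K, g v ∈ K := fun v hv => (mem_ker_delta h2 _ _).2 (by
      have h := DFunLike.congr_fun hga v
      simp only [MulAut.mul_apply] at h
      rw [← h, (mem_ker_delta h2 _ v).1 hv])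
    let e : Function.End K := fun v => ⟨g v, hgK v v.2⟩
    have he : e ^ 3 ^ 1 = 1 := by
      funext v
      refine Subtype.ext ?_
      have h3 := DFunLike.congr_fun hg3 (v : W)
      rw [pow_succ', pow_two, MulAut.mul_apply, MulAut.mul_apply] at h3
      exact h3
    have hm := Equiv.Perm.card_fixedPoints_modEq (f := e) he
    have hF4 : 2 < Nat.card ↥(K ⊓ (delta g).ker) := by
      have hle : (delta (a i)).range < K ⊓ (delta g).ker := by
        refine lt_of_le_of_ne (fun v hv => ⟨(mem_ker_delta h2 _ v).2 (hRfix i i v hv),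
          (mem_ker_delta h2 _ v).2 (hgR v hv)⟩) ?_
        intro h
        have hsK : s ∈ K ⊓ (delta g).ker := ⟨(mem_ker_delta h2 _ s).2 hs, (mem_ker_delta h2 _ s).2 hgs⟩
        exact hsL (hRL s (h.symm ▸ hsK))
      by_contra hlt
      exact hle.ne (eq_of_le_of_card_ge hle.le (by rw [hR2]; omega))
    have hfix : Nat.card (Function.fixedPoints e) = Nat.card ↥(K ⊓ (delta g).ker) :=
      Nat.card_congr
        { toFun := fun v => ⟨v.1.1, v.1.2, (mem_ker_delta h2 g _).2 (congrArg Subtype.val v.2)⟩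
          invFun := fun v => ⟨⟨v.1, v.2.1⟩, Subtype.ext ((mem_ker_delta h2 g _).1 v.2.2)⟩
          left_inv := fun v => rfl
          right_inv := fun v => rfl }
    rw [← Nat.card_eq_fintype_card, ← Nat.card_eq_fintype_card, hfix, hK8] at hm
    obtain ⟨x, y, hx, hy, hxy⟩ := exists_card_ker h2 (a := g) (fun h => hF.ne_one i (hf (h.trans (map_one f).symm)))
    have hd := card_dvd_of_le (inf_le_right : K ⊓ (delta g).ker ≤ (delta g).ker)
    have hd8 := card_dvd_of_le (inf_le_left : K ⊓ (delta g).ker ≤ K)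
    have hmW := modEq_ker h2 hg3
    rw [hW16] at hy
    obtain rfl : y = 4 := Nat.pow_right_injective le_rfl (show 2 ^ y = 2 ^ 4 by omega)
    rw [hx] at hd hmW
    rw [hW16] at hmW
    rw [hK8] at hd8
    have hinf8 : Nat.card ↥(K ⊓ (delta g).ker) = 8 := by
      have key : ∀ c ∈ List.range 9, c ∣ 8 → 2 < c → 8 % 3 = c % 3 → c = 8 := by decide
      exact key _ (List.mem_range.2 (Nat.lt_succ_of_le (Nat.le_of_dvd (by norm_num) hd8))) hd8 hF4 hm
    rw [hinf8] at hd
    have key : ∀ x ∈ List.range 4, 8 ∣ 2 ^ x → 16 % 3 ≠ 2 ^ x % 3 := by decide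
    exact key x (List.mem_range.2 hxy) hd hmW

end CfsgLib.SectRankFour
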