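import Cfsg.Agent.SectRankFour.Transvection
import Cfsg.Agent.Solvable.SectionalFour

/-!
An extension of an elementary abelian group of order at most 16 by a faithful symmetric group of degree six
has an elementary abelian section of order 32.
-/

set_option autoImplicit false
set_option linter.unusedSectionVars false
set_option linter.style.haveILetI false

namespace CfsgLib.SectRankFour

open Equiv Subgroup
open scoped commutatorElement

variable {Y : Type*} [Group Y] [Finite Y]

theorem false_of_six (hr : Cfsg.SectionalPRankLE 2 4 Y) (V : Subgroup Y) [V.Normal]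
    (hab : ∀ a ∈ V, ∀ b ∈ V, a * b = b * a) (hsq : ∀ a ∈ V, a * a = 1) (hcard : Nat.card V ≤ 16)
    (hC : centralizer (V : Set Y) ≤ V) (ψ : Perm (Fin 6) →* Y ⧸ V) (hψ : Function.Injective ψ) : False := by
  classical
  letI : CommGroup V :=
    { (inferInstance : Group V) with mul_comm := fun a b => Subtype.ext (hab a a.2 b b.2) }
  have h2 : ∀ v : V, v * v = 1 := fun v => Subtype.ext (hsq v v.2)
  have hle : V ≤ (MulAut.conjNormal (H := V) : Y →* MulAut V).ker := fun y hy => by
    rw [MonoidHom.mem_ker]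
    refine MulEquiv.ext fun v => Subtype.ext ?_
    rw [MulAut.conjNormal_apply, MulAut.one_apply, hab y hy v v.2, mul_assoc, mul_inv_cancel, mul_one]
  let act : Y ⧸ V →* MulAut V := QuotientGroup.lift V MulAut.conjNormal hle
  have hact : Function.Injective act := by
    rw [← MonoidHom.ker_eq_bot_iff, QuotientGroup.ker_lift, eq_bot_iff]
    rintro - ⟨y, hy, rfl⟩
    refine (QuotientGroup.eq_one_iff y).2 (hC ?_)
    rw [mem_centralizer_iff]
    intro v hv
    have h := congrArg Subtype.val (DFunLike.congr_fun (MonoidHom.mem_ker.1 hy) (⟨v, hv⟩ : V))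
    rw [MulAut.conjNormal_apply] at h
    exact (mul_inv_eq_iff_eq_mul.1 h).symm
  obtain ⟨τ, γ, r, L, hF, hL4, hW, hcom, hfix, hpr, hkey⟩ :=
    exists_frame h2 hcard (act.comp ψ) (hact.comp hψ)
  let π := QuotientGroup.mk' V
  choose t ht using fun i => QuotientGroup.mk'_surjective V (ψ (τ i))
  choose g hg using fun i => QuotientGroup.mk'_surjective V (ψ (γ i))
  -- conjugation agrees with the action
  have hconj : ∀ (σ : Perm (Fin 6)) (y : Y), π y = ψ σ → ∀ v : V,
      ((act.comp ψ) σ v : Y) = y * v * y⁻¹ := fun σ y hy v => by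
    rw [MonoidHom.comp_apply, ← hy]
    exact MulAut.conjNormal_apply y v
  set N : Subgroup Y := L.map V.subtype with hN
  have hN4 : Nat.card N = 4 := by
    rw [hN, ← hL4]; exact (Nat.card_congr (L.equivMapOfInjective _ V.subtype_injective).toEquiv).symm
  have hmemN : ∀ v : V, v ∈ L → (v : Y) ∈ N := fun v hv => ⟨v, hv, rfl⟩
  have hpi2 : ∀ i, t i * t i ∈ V := fun i => (QuotientGroup.eq_one_iff _).1 (by
    show π (t i * t i) = 1
    rw [map_mul, ht, ← map_mul, hF.sq, map_one])
  -- squares of the lifts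
  have hsqN : ∀ i, t i * t i ∈ N := by
    intro i
    refine hmemN ⟨_, hpi2 i⟩ (hkey i ⟨_, hpi2 i⟩ ⟨g i * t i * (g i)⁻¹ * (t i)⁻¹, ?_⟩ ?_ ?_)
    · refine (QuotientGroup.eq_one_iff _).1 ?_
      show π (g i * t i * (g i)⁻¹ * (t i)⁻¹) = 1
      rw [map_mul, map_mul, map_mul, map_inv, map_inv, hg, ht, ← map_inv, ← map_inv, ← map_mul, ← map_mul,
        ← map_mul, hF.centre, mul_inv_cancel_right, mul_inv_cancel, map_one]
    · refine Subtype.ext ?_
      rw [hconj _ _ (ht i)]
      show t i * (t i * t i) * (t i)⁻¹ = t i * t i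
      group
    · refine Subtype.ext ?_
      rw [hconj _ _ (hg i), Subgroup.coe_mul, Subgroup.coe_mul, hconj _ _ (ht i)]
      show g i * (t i * t i) * (g i)⁻¹ = _ * (t i * t i)
      set c : Y := g i * t i * (g i)⁻¹ * (t i)⁻¹ with hc
      have hc' : c ∈ V := by
        refine (QuotientGroup.eq_one_iff _).1 ?_
        show π (g i * t i * (g i)⁻¹ * (t i)⁻¹) = 1
        rw [map_mul, map_mul, map_mul, map_inv, map_inv, hg, ht, ← map_inv, ← map_inv, ← map_mul, ← map_mul,
          ← map_mul, hF.centre, mul_inv_cancel_right, mul_inv_cancel, map_one]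
      show _ = t i * c * (t i)⁻¹ * c * (t i * t i)
      rw [hab _ (‹V.Normal›.conj_mem c hc' (t i)) c hc', hc]
      group
  -- commutators of the lifts
  have hprodN : ∀ i j, i ≠ j → t i * t j * (t i * t j) ∈ N := by
    intro i j hij
    have hπ : π (t i * t j) = ψ (τ i * τ j) := by rw [map_mul, ht, ht, map_mul]
    have hmem : t i * t j * (t i * t j) ∈ V := (QuotientGroup.eq_one_iff _).1 (by
      show π (t i * t j * (t i * t j)) = 1
      rw [map_mul, hπ, ← map_mul, show τ i * τ j * (τ i * τ j) = 1 by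
        rw [mul_assoc, ← mul_assoc (τ j), hF.comm j i, mul_assoc (τ i), hF.sq, mul_one, hF.sq], map_one])
    refine hmemN ⟨_, hmem⟩ (hpr i j hij ⟨_, hmem⟩ (Subtype.ext ?_))
    rw [hconj _ _ hπ]
    show t i * t j * (t i * t j * (t i * t j)) * (t i * t j)⁻¹ = _
    group
  set S : Set Y := (V : Set Y) ∪ Set.range t with hS
  set K : Subgroup Y := closure S with hK
  have hVK : V ≤ K := fun v hv => subset_closure (Or.inl hv)
  have hNV : N ≤ V := map_subtype_le L
  have hcent : ∀ x ∈ N, ∀ s ∈ S, s * x = x * s := by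
    rintro - ⟨v, hv, rfl⟩ s (hs | ⟨i, rfl⟩)
    · exact hab s hs v v.2
    · have h := congrArg Subtype.val (hfix i v hv)
      rw [hconj _ _ (ht i)] at h
      exact mul_inv_eq_iff_eq_mul.1 h
  have hnorm : K ≤ normalizer (N : Set Y) := by
    refine le_trans ((closure_le _).2 ?_) (centralizer_le_normalizer (N : Set Y))
    intro s hs
    exact mem_centralizer_iff.2 fun x hx => (hcent x hx s hs).symm
  haveI : (N.subgroupOf K).Normal := (normal_subgroupOf_iff_le_normalizer (hNV.trans hVK)).2 hnorm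
  let q := QuotientGroup.mk' (N.subgroupOf K)
  have hq : ∀ x : K, q x = 1 ↔ (x : Y) ∈ N := fun x => (QuotientGroup.eq_one_iff x).trans mem_subgroupOf
  have hgen : ∀ x (hx : x ∈ S), q ⟨x, subset_closure hx⟩ * q ⟨x, subset_closure hx⟩ = 1 := by
    intro x hx
    rw [← map_mul, hq]
    show x * x ∈ N
    rcases hx with hx | ⟨i, rfl⟩
    · rw [hsq x hx]; exact one_mem _
    · exact hsqN i
  have hVt : ∀ v (hv : v ∈ V) i, Commute (q ⟨v, hVK hv⟩) (q ⟨t i, subset_closure (Or.inr ⟨i, rfl⟩)⟩) := by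
    intro v hv i
    refine Commute.symm (commutatorElement_eq_one_iff_mul_comm.1 ?_)
    rw [← map_commutatorElement, hq]
    show t i * v * (t i)⁻¹ * v⁻¹ ∈ N
    have hinv : v⁻¹ = v := inv_eq_of_mul_eq_one_right (hsq v hv)
    have h := hmemN _ (hcom i ⟨v, hv⟩)
    rw [Subgroup.coe_mul, hconj _ _ (ht i)] at h
    rw [hinv]
    exact h
  have hpairs : ∀ x (hx : x ∈ S) y (hy : y ∈ S), Commute (q ⟨x, subset_closure hx⟩) (q ⟨y, subset_closure hy⟩) := by
    intro x hx y hy
    have hx' := hx; have hy' := hy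
    rcases hx' with hxv | ⟨i, rfl⟩ <;> rcases hy' with hyv | ⟨j, rfl⟩
    · rw [Commute, SemiconjBy, ← map_mul, ← map_mul]
      exact congrArg q (Subtype.ext (hab x hxv y hyv))
    · exact hVt x hxv j
    · exact (hVt y hyv i).symm
    · by_cases hij : i = j
      · subst hij; exact Commute.refl _
      have ha := hgen (t i) hx
      have hb := hgen (t j) hy
      have hab' : q ⟨t i, subset_closure hx⟩ * q ⟨t j, subset_closure hy⟩ *
          (q ⟨t i, subset_closure hx⟩ * q ⟨t j, subset_closure hy⟩) = 1 := by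
        rw [← map_mul, ← map_mul, hq]; exact hprodN i j hij
      have h1 := inv_eq_of_mul_eq_one_right hab'
      rw [mul_inv_rev, inv_eq_of_mul_eq_one_right ha, inv_eq_of_mul_eq_one_right hb] at h1
      exact h1.symm
  have hqcomm : ∀ x y : K, Commute (q x) (q y) := by
    rintro ⟨x, hx⟩ ⟨y, hy⟩
    induction hx, hy using Subgroup.closure_induction₂ with
    | mem x y hx hy => exact hpairs x hx y hy
    | one_left x hx => exact (show q ⟨1, one_mem K⟩ = 1 from map_one q) ▸ Commute.one_left _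
    | one_right x hx => exact (show q ⟨1, one_mem K⟩ = 1 from map_one q) ▸ Commute.one_right _
    | mul_left x y z hx hy hz h1 h2 =>
      rw [show (⟨x * y, mul_mem hx hy⟩ : K) = ⟨x, hx⟩ * ⟨y, hy⟩ from rfl, map_mul]
      exact h1.mul_left h2
    | mul_right y z x hy hz hx h1 h2 =>
      rw [show (⟨y * z, mul_mem hy hz⟩ : K) = ⟨y, hy⟩ * ⟨z, hz⟩ from rfl, map_mul]
      exact h1.mul_right h2
    | inv_left x y hx hy h =>
      rw [show (⟨x⁻¹, inv_mem hx⟩ : K) = (⟨x, hx⟩ : K)⁻¹ from rfl, map_inv]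
      exact h.inv_left
    | inv_right x y hx hy h =>
      rw [show (⟨y⁻¹, inv_mem hy⟩ : K) = (⟨y, hy⟩ : K)⁻¹ from rfl, map_inv]
      exact h.inv_right
  have hqsq : ∀ x (hx : x ∈ K), q ⟨x, hx⟩ * q ⟨x, hx⟩ = 1 := by
    intro x hx
    induction hx using Subgroup.closure_induction with
    | mem x hx => exact hgen x hx
    | one => rw [show (⟨1, one_mem K⟩ : K) = 1 from rfl, map_one, mul_one]
    | mul x y hx hy h1 h2 =>
      rw [show (⟨x * y, mul_mem hx hy⟩ : K) = ⟨x, hx⟩ * ⟨y, hy⟩ from rfl, map_mul,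
        (hqcomm ⟨y, hy⟩ ⟨x, hx⟩).mul_mul_mul_comm, h1, h2, mul_one]
    | inv x hx h =>
      rw [show (⟨x⁻¹, inv_mem hx⟩ : K) = (⟨x, hx⟩ : K)⁻¹ from rfl, map_inv, ← mul_inv_rev, h, inv_one]
  have hb := CfsgLib.SectionalFour.section_bound hr (hNV.trans hVK) hnorm
    (fun x hx y hy => by
      have h : q (⁅(⟨x, hx⟩ : K), (⟨y, hy⟩ : K)⁆) = 1 := by
        rw [map_commutatorElement, commutatorElement_eq_one_iff_mul_comm]; exact hqcomm _ _
      exact (hq _).1 h)
    (fun x hx => (hq ⟨_, mul_mem hx hx⟩).1 (by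
      rw [show (⟨x * x, mul_mem hx hx⟩ : K) = ⟨x, hx⟩ * ⟨x, hx⟩ from rfl, map_mul]; exact hqsq x hx))
  -- the lifts give eight cosets
  let word : (Fin 3 → Bool) → Y := fun e =>
    (if e 0 then t 0 else 1) * (if e 1 then t 1 else 1) * (if e 2 then t 2 else 1)
  have hwK : ∀ e, word e ∈ K := by
    intro e
    refine mul_mem (mul_mem ?_ ?_) ?_ <;>
    · split
      · exact subset_closure (Or.inr ⟨_, rfl⟩)
      · exact one_mem _
  have hπw : ∀ e, π (word e) = ψ ((if e 0 then τ 0 else 1) * (if e 1 then τ 1 else 1) * (if e 2 then τ 2 else 1)) := by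
    intro e
    simp only [word, map_mul, apply_ite π, apply_ite ψ, map_one, π, ht]
  have hinj : Function.Injective fun p : V × (Fin 3 → Bool) => (⟨p.1 * word p.2, mul_mem (hVK p.1.2) (hwK p.2)⟩ : K) := by
    rintro ⟨v, e⟩ ⟨w, d⟩ h
    have h' : (v : Y) * word e = w * word d := congrArg Subtype.val h
    have hed := congrArg π h'
    rw [map_mul π (v : Y) (word e), map_mul π (w : Y) (word d), show π v = 1 from (QuotientGroup.eq_one_iff _).2 v.2,
      show π w = 1 from (QuotientGroup.eq_one_iff _).2 w.2, one_mul, one_mul, hπw, hπw] at hed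
    obtain rfl := hF.word (hψ hed)
    rw [mul_left_inj] at h'
    exact Prod.ext (Subtype.ext h') rfl
  have h128 := Nat.card_le_card_of_injective _ hinj
  rw [Nat.card_prod, hW, Nat.card_fun, Nat.card_fin, Nat.card_eq_fintype_card (α := Bool), Fintype.card_bool] at h128
  rw [hN4] at hb
  omega

end CfsgLib.SectRankFour
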